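import Mathlib
import Cfsg.Prelude.Def_SporadicB
import Cfsg.Agent.Lib.Involutions.Basic

/-!
# An involution centralizer with an elementary abelian Sylow subgroup of order eight

The data `Std` is checked for the direct products of `C₂` with the alternating groups of degree four and five.
-/

set_option autoImplicit false
set_option linter.all false

namespace Cfsg.Agent.CentralTwoAlt

open Cfsg.Agent.Involutions.Basic

/-- The properties of the model centralizer that are used. -/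
structure Std {K : Type*} [Group K] [DecidableEq K] (Sd : Finset K) (τ x : K) : Prop where
  card : Sd.card = 8
  one : 1 ∈ Sd
  mul : ∀ a ∈ Sd, ∀ b ∈ Sd, a * b ∈ Sd ∧ a * b = b * a ∧ a * a = 1
  tau : τ ∈ Sd ∧ τ ≠ 1
  central : ∀ k, k * τ = τ * k
  hx : x * x * x = 1 ∧ x ≠ 1
  xconj : ∀ a ∈ Sd, x * a * x⁻¹ ∈ Sd
  fix : ∀ a ∈ Sd, x * a * x⁻¹ = a → a = 1 ∨ a = τ
  orbits : ∀ P ∈ (Sd.erase 1).powerset, (∀ a ∈ P, x * a * x⁻¹ ∈ P) →
    P.card % 3 = if τ ∈ P then 1 else 0
  invConj : ∀ k, k * k = 1 → ∃ g, g * k * g⁻¹ ∈ Sd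
  self : ∀ k, (∀ a ∈ Sd, k * a = a * k) → k ∈ Sd

/-- Two commuting involutions without fixed points on a group they normalize, nor their product,
centralize nothing but the trivial group. -/
theorem eq_bot_of_four {G : Type*} [Group G] [Finite G] (M : Subgroup G) {a b : G} (ha : a * a = 1)
    (hb : b * b = 1) (hab : a * b = b * a) (na : ∀ m ∈ M, a * m * a⁻¹ ∈ M) (nb : ∀ m ∈ M, b * m * b⁻¹ ∈ M)
    (fa : ∀ m ∈ M, Commute a m → m = 1) (fb : ∀ m ∈ M, Commute b m → m = 1)
    (fab : ∀ m ∈ M, Commute (a * b) m → m = 1) : M = ⊥ := by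
  have key : ∀ c : G, c * c = 1 → (∀ m ∈ M, c * m * c⁻¹ ∈ M) → (∀ m ∈ M, Commute c m → m = 1) →
      ∀ m ∈ M, c * m * c⁻¹ = m⁻¹ := by
    intro c hc nc fc
    let f : M → M := fun o => ⟨(o : G)⁻¹ * (c * o * c⁻¹), mul_mem (inv_mem o.2) (nc _ o.2)⟩
    have hf : Function.Injective f := by
      intro o p h
      have h' : (o : G)⁻¹ * (c * o * c⁻¹) = (p : G)⁻¹ * (c * p * c⁻¹) := congrArg Subtype.val h
      have h2 : Commute c ((p : G) * (o : G)⁻¹) := by
        revert h'
        generalize (o : G) = o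
        generalize (p : G) = p
        intro h'
        show c * (p * o⁻¹) = p * o⁻¹ * c
        calc c * ((p : G) * o⁻¹) = p * ((p : G)⁻¹ * (c * p * c⁻¹)) * (c * o⁻¹) := by group
          _ = p * ((o : G)⁻¹ * (c * o * c⁻¹)) * (c * o⁻¹) := by rw [h']
          _ = _ := by group
      exact Subtype.ext (mul_inv_eq_one.1 (fc _ (mul_mem p.2 (inv_mem o.2)) h2)).symm
    intro m hm
    obtain ⟨o, ho⟩ := Finite.surjective_of_injective hf ⟨m, hm⟩
    have ho' : (o : G)⁻¹ * (c * o * c⁻¹) = m := congrArg Subtype.val ho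
    have hci : c⁻¹ = c := inv_eq_of_mul_eq_one_right hc
    rw [← ho', hci]
    calc c * ((o : G)⁻¹ * (c * o * c)) * c = c * (o : G)⁻¹ * c * o * (c * c) := by group
      _ = _ := by rw [hc, mul_one, mul_inv_rev, mul_inv_rev, mul_inv_rev, inv_inv, hci]; group
  rw [Subgroup.eq_bot_iff_forall]
  intro m hm
  refine fab m hm ?_
  have h1 := key b hb nb fb m hm
  have h2 := key a ha na fa _ (inv_mem hm)
  show a * b * m = m * (a * b)
  rw [← mul_inv_eq_iff_eq_mul, mul_inv_rev,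
    show a * b * m * (b⁻¹ * a⁻¹) = a * (b * m * b⁻¹) * a⁻¹ by group, h1, h2, inv_inv]

/-- An involution centralizer modelled on `K`. -/
structure Ctx (G : Type*) [Group G] (K : Type*) [Group K] [DecidableEq K] where
  J : G
  φ : K →* G
  Sd : Finset K
  τ : K
  x : K
  std : Std Sd τ x
  inj : Function.Injective φ
  range : φ.range = Subgroup.centralizer ({J} : Set G)
  hτ : φ τ = J
  two : Cfsg.IsTwoCentralInvolution J
  h16 : ¬ 16 ∣ Nat.card K
  fused : ∃ k, k ≠ τ ∧ IsConj J (φ k)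

namespace Ctx

variable {G : Type*} [Group G] [Finite G] {K : Type*} [Group K] [DecidableEq K] (c : Ctx G K)

theorem exists_model {g : G} (h : g * c.J = c.J * g) : ∃ k, c.φ k = g := by
  have : g ∈ c.φ.range := c.range ▸ Subgroup.mem_centralizer_singleton_iff.2 h
  exact this

theorem phi_comm (k : K) : c.φ k * c.J = c.J * c.φ k := by
  rw [← c.hτ, ← map_mul, ← map_mul, c.std.central]

theorem orderOf_J : orderOf c.J = 2 := c.two.1

theorem J_mul_self : c.J * c.J = 1 := inv_sq_one c.orderOf_J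

/-- The image of the standard elementary abelian subgroup. -/
def S : Subgroup G where
  carrier := {g | ∃ k ∈ c.Sd, c.φ k = g}
  one_mem' := ⟨1, c.std.one, map_one _⟩
  mul_mem' := by
    rintro a b ⟨k, hk, rfl⟩ ⟨l, hl, rfl⟩
    exact ⟨k * l, (c.std.mul k hk l hl).1, map_mul _ _ _⟩
  inv_mem' := by
    rintro a ⟨k, hk, rfl⟩
    refine ⟨k, hk, (inv_eq_of_mul_eq_one_right ?_).symm⟩
    rw [← map_mul, (c.std.mul k hk k hk).2.2, map_one]

theorem mem_S {g : G} : g ∈ c.S ↔ ∃ k ∈ c.Sd, c.φ k = g := Iff.rfl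

theorem J_mem_S : c.J ∈ c.S := ⟨c.τ, c.std.tau.1, c.hτ⟩

theorem comm_S {a b : G} (ha : a ∈ c.S) (hb : b ∈ c.S) : a * b = b * a := by
  obtain ⟨k, hk, rfl⟩ := ha
  obtain ⟨l, hl, rfl⟩ := hb
  rw [← map_mul, ← map_mul, (c.std.mul k hk l hl).2.1]

theorem sq_S {a : G} (ha : a ∈ c.S) : a * a = 1 := by
  obtain ⟨k, hk, rfl⟩ := ha
  rw [← map_mul, (c.std.mul k hk k hk).2.2, map_one]

theorem orderOf_of_mem_S {a : G} (ha : a ∈ c.S) (h1 : a ≠ 1) : orderOf a = 2 :=
  orderOf_two_iff.2 ⟨c.sq_S ha, h1⟩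

theorem S_le_centralizer : c.S ≤ Subgroup.centralizer ({c.J} : Set G) := by
  intro g hg
  exact Subgroup.mem_centralizer_singleton_iff.2 (c.comm_S hg c.J_mem_S)

theorem card_S : Nat.card c.S = 8 := by
  let f : {k // k ∈ c.Sd} → c.S := fun k => ⟨c.φ k, k.1, k.2, rfl⟩
  have hf : Function.Bijective f := ⟨fun a b h => Subtype.ext (c.inj (congrArg Subtype.val h)),
    fun ⟨g, k, hk, e⟩ => ⟨⟨k, hk⟩, Subtype.ext e⟩⟩
  rw [← Nat.card_congr (Equiv.ofBijective f hf), Nat.card_eq_fintype_card, Fintype.card_coe, c.std.card]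

theorem card_centralizer : Nat.card (Subgroup.centralizer ({c.J} : Set G)) = Nat.card K := by
  rw [← c.range, ← Nat.card_congr (MonoidHom.ofInjective c.inj).toEquiv]

include c in
theorem factorization_two : (Nat.card G).factorization 2 = 3 := by
  have : Fact (Nat.Prime 2) := ⟨Nat.prime_two⟩
  obtain ⟨-, P, -, hP⟩ := c.two
  have h1 : 2 ^ (Nat.card G).factorization 2 ∣ Nat.card K := by
    rw [← c.card_centralizer, ← P.card_eq_multiplicity]
    exact Subgroup.card_dvd_of_le fun g hg => Subgroup.mem_centralizer_singleton_iff.2 (hP g hg)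
  have h2 : 2 ^ 3 ∣ Nat.card G := by
    have := c.S.card_subgroup_dvd_card
    rwa [c.card_S] at this
  have h3 := (Nat.prime_two.pow_dvd_iff_le_factorization Nat.card_pos.ne').1 h2
  by_contra hne
  exact c.h16 ((pow_dvd_pow 2 (by omega : 4 ≤ (Nat.card G).factorization 2)).trans h1)

include c in
theorem not_sixteen_dvd : ¬ 16 ∣ Nat.card G := fun h => by
  have := (Nat.prime_two.pow_dvd_iff_le_factorization (k := 4) Nat.card_pos.ne').1 h
  rw [c.factorization_two] at this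
  omega

/-- The standard Sylow 2-subgroup. -/
noncomputable def syl : Sylow 2 G :=
  haveI : Fact (Nat.Prime 2) := ⟨Nat.prime_two⟩
  Sylow.ofCard c.S (by rw [c.card_S, c.factorization_two]; norm_num)

theorem syl_coe : (c.syl : Subgroup G) = c.S := rfl

instance syl_comm : IsMulCommutative (c.syl : Subgroup G) :=
  ⟨⟨fun a b => Subtype.ext (c.comm_S a.2 b.2)⟩⟩

/-- Elements of the standard Sylow subgroup that are conjugate are conjugate in its normalizer. -/
theorem conj_in_normalizer {a b g : G} (ha : a ∈ c.S) (hb : b ∈ c.S) (h : g * a * g⁻¹ = b) :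
    ∃ n ∈ Subgroup.normalizer (c.S : Set G), n * a * n⁻¹ = b := by
  have : Fact (Nat.Prime 2) := ⟨Nat.prime_two⟩
  obtain ⟨n, hn, e⟩ := Sylow.conj_eq_normalizer_conj_of_mem c.syl a g⁻¹ ha
    (by rw [inv_inv, h]; exact hb)
  refine ⟨n⁻¹, inv_mem hn, ?_⟩
  rw [inv_inv] at e
  rw [inv_inv, ← e, h]

theorem x_normalizer : c.φ c.x ∈ Subgroup.normalizer (c.S : Set G) := by
  refine Subgroup.mem_normalizer_iff.2 fun g => ⟨?_, ?_⟩
  · rintro ⟨k, hk, rfl⟩
    exact ⟨_, c.std.xconj k hk, by simp⟩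
  · rintro ⟨k, hk, e⟩
    refine ⟨_, c.std.xconj _ (c.std.xconj k hk), ?_⟩
    have h3 : c.φ c.x * c.φ c.x * c.φ c.x = 1 := by rw [← map_mul, ← map_mul, c.std.hx.1, map_one]
    have h4 : (c.φ c.x)⁻¹ = c.φ c.x * c.φ c.x := inv_eq_of_mul_eq_one_left h3
    rw [map_mul, map_mul, map_mul, map_mul, map_inv, e]
    calc _ = (c.φ c.x * c.φ c.x * c.φ c.x) * g * (c.φ c.x * c.φ c.x * c.φ c.x)⁻¹ := by group
      _ = g := by rw [h3]; group

theorem orbit_data :
    (∀ s ∈ c.S, s ≠ 1 → ∃ n ∈ Subgroup.normalizer (c.S : Set G), n * c.J * n⁻¹ = s) ∧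
      Nat.card (Subgroup.normalizer (c.S : Set G)) =
        7 * Nat.card (Subgroup.normalizer (c.S : Set G) ⊓ Subgroup.centralizer ({c.J} : Set G) :
          Subgroup G) := by
  classical
  set N := Subgroup.normalizer (c.S : Set G) with hN
  let O := (c.Sd.erase 1).filter fun k => ∃ n ∈ N, n * c.J * n⁻¹ = c.φ k
  have hO : ∀ k, k ∈ O ↔ k ≠ 1 ∧ k ∈ c.Sd ∧ ∃ n ∈ N, n * c.J * n⁻¹ = c.φ k := fun k => by
    simp [O, and_assoc]
  have hτ : c.τ ∈ O := (hO _).2 ⟨c.std.tau.2, c.std.tau.1, 1, one_mem _, by simp [c.hτ]⟩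
  have hmod : O.card % 3 = 1 := by
    have := c.std.orbits O (Finset.mem_powerset.2 (Finset.filter_subset _ _)) fun k hk => by
      obtain ⟨h1, h2, n, hn, e⟩ := (hO k).1 hk
      refine (hO _).2 ⟨fun h => h1 (conj_eq_one_iff.1 h), c.std.xconj k h2, c.φ c.x * n,
        mul_mem c.x_normalizer hn, ?_⟩
      rw [map_mul, map_mul, map_inv, ← e]; group
    rw [if_pos hτ] at this
    exact this
  have hle : O.card ≤ 7 := (Finset.card_filter_le _ _).trans (by
    rw [Finset.card_erase_of_mem c.std.one, c.std.card])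
  have hone : 1 < O.card := by
    obtain ⟨k, hk, hJk⟩ := c.fused
    obtain ⟨g, hg⟩ := isConj_iff.1 hJk
    have hk2 : k * k = 1 := c.inj (by
      rw [map_mul, map_one, ← hg]
      calc g * c.J * g⁻¹ * (g * c.J * g⁻¹) = g * (c.J * c.J) * g⁻¹ := by group
        _ = 1 := by rw [c.J_mul_self]; group)
    obtain ⟨d, hd⟩ := c.std.invConj k hk2
    have hconj : c.φ d * g * c.J * (c.φ d * g)⁻¹ = c.φ (d * k * d⁻¹) := by
      rw [map_mul, map_mul, map_inv, ← hg]; group
    obtain ⟨n, hn, e⟩ := c.conj_in_normalizer c.J_mem_S ⟨_, hd, rfl⟩ hconj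
    have hne : d * k * d⁻¹ ≠ c.τ := fun h => hk (by
      calc k = d⁻¹ * (d * k * d⁻¹) * d := by group
        _ = d⁻¹ * (c.τ * d) := by rw [h]; group
        _ = d⁻¹ * (d * c.τ) := by rw [c.std.central]
        _ = c.τ := by group)
    refine Finset.one_lt_card.2 ⟨c.τ, hτ, _, (hO _).2 ⟨fun h => ?_, hd, n, hn, e⟩, Ne.symm hne⟩
    rw [h, map_one, conj_eq_one_iff] at e
    exact ne_one c.orderOf_J e
  let act : MulAction N G := MulAction.compHom G ((ConjAct.toConjAct.toMonoidHom).comp N.subtype)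
  have hs : ∀ (n : N) (g : G), act.smul n g = n * g * (n : G)⁻¹ := fun n g =>
    ConjAct.smul_def _ _
  have horb : MulAction.orbit N c.J = c.φ '' (O : Set K) := by
    ext g
    simp only [MulAction.mem_orbit_iff, Set.mem_image, Finset.mem_coe]
    constructor
    · rintro ⟨n, rfl⟩
      obtain ⟨k, hk, e⟩ : (n : G) * c.J * (n : G)⁻¹ ∈ c.S :=
        (Subgroup.mem_normalizer_iff.1 n.2 _).1 c.J_mem_S
      refine ⟨k, (hO k).2 ⟨fun h => ?_, hk, n, n.2, e.symm⟩, e.trans (hs n c.J).symm⟩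
      rw [h, map_one, eq_comm, conj_eq_one_iff] at e
      exact ne_one c.orderOf_J e
    · rintro ⟨k, hk, rfl⟩
      obtain ⟨-, -, n, hn, e⟩ := (hO k).1 hk
      exact ⟨⟨n, hn⟩, (hs _ _).trans e⟩
  have hstab : MulAction.stabilizer N c.J =
      (N ⊓ Subgroup.centralizer ({c.J} : Set G)).subgroupOf N := by
    ext n
    rw [MulAction.mem_stabilizer_iff, Subgroup.mem_subgroupOf, Subgroup.mem_inf,
      Subgroup.mem_centralizer_singleton_iff]
    refine ⟨fun h => ⟨n.2, mul_inv_eq_iff_eq_mul.1 ((hs n c.J).symm.trans h)⟩,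
      fun h => (hs n c.J).trans (mul_inv_eq_iff_eq_mul.2 h.2)⟩
  have hcard : Nat.card N = O.card *
      Nat.card (N ⊓ Subgroup.centralizer ({c.J} : Set G) : Subgroup G) := by
    rw [← (MulAction.stabilizer N c.J).index_mul_card, MulAction.index_stabilizer, horb,
      Set.ncard_image_of_injective _ c.inj, Set.ncard_coe_finset, hstab,
      Nat.card_congr (Subgroup.subgroupOfEquivOfLe inf_le_left).toEquiv]
  have h7 : O.card = 7 := by
    rcases (show O.card = 4 ∨ O.card = 7 by omega) with h | h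
    · exfalso
      have h8 : 8 ∣ Nat.card (N ⊓ Subgroup.centralizer ({c.J} : Set G) : Subgroup G) :=
        c.card_S ▸ Subgroup.card_dvd_of_le (le_inf Subgroup.le_normalizer c.S_le_centralizer)
      have := N.card_subgroup_dvd_card
      rw [hcard, h] at this
      exact c.not_sixteen_dvd ((show 16 ∣ 4 * 8 by norm_num).trans ((mul_dvd_mul_left 4 h8).trans this))
    · exact h
  refine ⟨fun s ⟨k, hk, e⟩ hs1 => ?_, by rw [hcard, h7]⟩
  have hall : O = c.Sd.erase 1 := Finset.eq_of_subset_of_card_le (Finset.filter_subset _ _) (by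
    rw [Finset.card_erase_of_mem c.std.one, c.std.card, h7])
  have hk' : k ∈ O := hall ▸ Finset.mem_erase.2 ⟨fun h => hs1 (by rw [← e, h, map_one]), hk⟩
  obtain ⟨-, -, n, hn, e'⟩ := (hO k).1 hk'
  exact ⟨n, hn, e'.trans e⟩

theorem exists_conj_J {t : G} (ht : orderOf t = 2) : ∃ g, g * c.J * g⁻¹ = t := by
  have : Fact (Nat.Prime 2) := ⟨Nat.prime_two⟩
  have hz : IsPGroup 2 (Subgroup.zpowers t) := IsPGroup.of_card (n := 1) (by
    rw [Nat.card_zpowers, ht, pow_one])
  obtain ⟨P, hP⟩ := hz.exists_le_sylow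
  obtain ⟨g, hg⟩ := MulAction.exists_smul_eq G c.syl P
  have h1 : t ∈ (P : Subgroup G) := hP (Subgroup.mem_zpowers t)
  rw [← hg, Sylow.coe_subgroup_smul] at h1
  obtain ⟨s, hs, e⟩ := h1
  change g * s * g⁻¹ = t at e
  have hs1 : s ≠ 1 := fun h => ne_one ht (by rw [← e, h]; group)
  obtain ⟨n, -, hn⟩ := c.orbit_data.1 s hs hs1
  exact ⟨g * n, by rw [← e, ← hn]; group⟩

theorem mem_centralizer_conj {g n : G} (h : Commute g (n * c.J * n⁻¹)) :
    ∃ k, n * c.φ k * n⁻¹ = g := by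
  obtain ⟨k, hk⟩ := c.exists_model (g := n⁻¹ * g * n) (by
    calc n⁻¹ * g * n * c.J = n⁻¹ * (g * (n * c.J * n⁻¹)) * n := by group
      _ = n⁻¹ * (n * c.J * n⁻¹ * g) * n := by rw [h.eq]
      _ = _ := by group)
  exact ⟨k, by rw [hk]; group⟩

end Ctx

end Cfsg.Agent.CentralTwoAlt
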