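import Cfsg.Agent.Lib.CentralTwoAlt.Models
import Cfsg.Agent.Lib.J1Unique.Main

/-!
# The case `m = 5`: the group is simple and is the first Janko group
-/

set_option autoImplicit false
set_option linter.all false
set_option maxRecDepth 100000
set_option synthInstance.maxHeartbeats 200000

namespace Cfsg.Agent.CentralTwoAlt

open Cfsg.Agent.Involutions.Basic
open scoped commutatorElement

universe u

theorem five_gen : ∀ k : Model 5, ∃ g : Model 5, (decide (g * g = 1) && decide (g * k * (g * k) = 1)) = true := by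
  decide +kernel

/-- Whether the product of `k` with a conjugate of `w` is an involution for some conjugate. -/
def fiveTest (k w : Model 5) : Bool :=
  [((1 : Multiplicative (ZMod 2)), p5.2.1), (1, p5.2.2), (1, J1Order.Alt.φ * p5.1)].any fun g : Model 5 =>
    decide (k * (g * w * g⁻¹) ≠ 1) && decide (k * (g * w * g⁻¹) * (k * (g * w * g⁻¹)) = 1)

theorem five_odd : ∀ k : Model 5,
    (decide (k * k = 1) || !decide (k.1 = 1) || fiveTest k k || fiveTest k (k * k)) = true := by
  decide +kernel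

theorem five_card : ∀ n : ℕ, n ∣ 120 → Odd n → n ∣ 15 := fun n hn ho =>
  Nat.Coprime.dvd_of_dvd_mul_left
    (Nat.Coprime.pow_right 3 (Nat.coprime_two_right.2 ho)) (show n ∣ 2 ^ 3 * 15 by norm_num; exact hn)

theorem five_comm : ¬ ∀ a b : Model 5, a * b = b * a := by
  intro h
  exact absurd (h (1, p5.1) (1, p5.2.2)) (by decide +kernel)

namespace Ctx

variable {G : Type u} [Group G] [Finite G] (c : Ctx G (Model 5))

include c in
/-- The subgroup generated by the involutions is everything. -/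
theorem closure_involutions : Subgroup.closure {t : G | t * t = 1} = ⊤ := by
  classical
  set N := Subgroup.closure {t : G | t * t = 1} with hN
  have hinv : ∀ t, t * t = 1 → t ∈ N := fun t ht => Subgroup.subset_closure ht
  have hnormal : ∀ g, ∀ t ∈ N, g * t * g⁻¹ ∈ N := by
    intro g t ht
    have : N ≤ N.comap (MulAut.conj g).toMonoidHom := by
      rw [hN, Subgroup.closure_le]
      intro t (ht : t * t = 1)
      refine Subgroup.subset_closure ?_
      show g * t * g⁻¹ * (g * t * g⁻¹) = 1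
      calc _ = g * (t * t) * g⁻¹ := by group
        _ = 1 := by rw [ht]; group
    exact this ht
  have hC : ∀ k, c.φ k ∈ N := by
    intro k
    obtain ⟨g, hg⟩ := five_gen k
    simp only [Bool.and_eq_true, decide_eq_true_eq] at hg
    have h1 := hinv (c.φ g) (by rw [← map_mul, hg.1, map_one])
    have h2 := hinv (c.φ (g * k)) (by rw [← map_mul, hg.2, map_one])
    have := mul_mem (inv_mem h1) h2
    rwa [map_mul, inv_mul_cancel_left] at this
  -- all involutions of the Sylow subgroup are conjugate inside `N`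
  let X : Set G := {s | (s ∈ c.S ∧ s ≠ 1) ∧ ∃ m ∈ N, m * c.J * m⁻¹ = s}
  have key : ∀ n ∈ Subgroup.normalizer (c.S : Set G),
      X.ncard % 3 = if n * c.J * n⁻¹ ∈ X then 1 else 0 := by
    intro n hn
    let P := (c.Sd.erase 1).filter fun k => n * c.φ k * n⁻¹ ∈ X
    have hinj : Function.Injective fun k => n * c.φ k * n⁻¹ := fun a b h =>
      c.inj (mul_left_cancel (mul_right_cancel h))
    have hP : X = (fun k => n * c.φ k * n⁻¹) '' (P : Set (Model 5)) := by
      ext s
      constructor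
      · intro hs
        obtain ⟨k, hk, e⟩ : n⁻¹ * s * n ∈ c.S := by
          have := (Subgroup.mem_normalizer_iff.1 (inv_mem hn) s).1 hs.1.1
          rwa [inv_inv] at this
        have e' : n * c.φ k * n⁻¹ = s := by rw [e]; group
        refine ⟨k, Finset.mem_filter.2 ⟨Finset.mem_erase.2 ⟨fun h => hs.1.2 ?_, hk⟩, by rw [e']; exact hs⟩, e'⟩
        rw [← e', h, map_one]; group
      · rintro ⟨k, hk, rfl⟩
        exact (Finset.mem_filter.1 hk).2
    have h := c.std.orbits P (Finset.mem_powerset.2 (Finset.filter_subset _ _)) fun k hk => by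
      obtain ⟨hk1, hkX⟩ := Finset.mem_filter.1 hk
      obtain ⟨hk1, hk2⟩ := Finset.mem_erase.1 hk1
      refine Finset.mem_filter.2 ⟨Finset.mem_erase.2 ⟨fun h => hk1 (conj_eq_one_iff.1 h), c.std.xconj k hk2⟩,
        ⟨(Subgroup.mem_normalizer_iff.1 hn _).1 ⟨_, c.std.xconj k hk2, rfl⟩, fun h => ?_⟩, ?_⟩
      · rw [conj_eq_one_iff, ← map_one c.φ] at h
        exact hk1 (conj_eq_one_iff.1 (c.inj h))
      · obtain ⟨m, hm, e⟩ := hkX.2
        refine ⟨n * c.φ c.x * n⁻¹ * m, mul_mem (hnormal n _ (hC _)) hm, ?_⟩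
        calc n * c.φ c.x * n⁻¹ * m * c.J * (n * c.φ c.x * n⁻¹ * m)⁻¹
            = n * c.φ c.x * n⁻¹ * (m * c.J * m⁻¹) * (n * (c.φ c.x)⁻¹ * n⁻¹) := by group
          _ = n * (c.φ c.x * c.φ k * (c.φ c.x)⁻¹) * n⁻¹ := by rw [e]; group
          _ = _ := by rw [map_mul, map_mul, map_inv]
    have hτ : c.τ ∈ P ↔ n * c.J * n⁻¹ ∈ X := by
      simp only [P, Finset.mem_filter, Finset.mem_erase, c.hτ]
      exact ⟨fun h => h.2, fun h => ⟨⟨c.std.tau.2, c.std.tau.1⟩, h⟩⟩
    have hcard : X.ncard = P.card := by rw [hP, Set.ncard_image_of_injective _ hinj, Set.ncard_coe_finset]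
    rw [hcard, h]
    simp only [hτ]
  have hJX : c.J ∈ X := ⟨⟨c.J_mem_S, ne_one c.orderOf_J⟩, 1, one_mem _, by group⟩
  have hall : ∀ s ∈ c.S, s ≠ 1 → ∃ m ∈ N, m * c.J * m⁻¹ = s := by
    intro s hs hs1
    obtain ⟨n, hn, e⟩ := c.orbit_data.1 s hs hs1
    by_contra hne
    have h1 := key 1 (one_mem _)
    have h2 := key n hn
    rw [if_pos (by simpa using hJX)] at h1
    rw [if_neg (fun h => hne (e ▸ h.2))] at h2
    omega
  -- all involutions are conjugate inside `N`
  have hcent : ∀ s, orderOf s = 2 → Commute s c.J → ∃ m ∈ N, m * c.J * m⁻¹ = s := by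
    intro s hs hcs
    obtain ⟨k, rfl⟩ := c.exists_model hcs.eq
    obtain ⟨d, hd⟩ := c.std.invConj k (c.inj (by rw [map_mul, inv_sq_one hs, map_one]))
    obtain ⟨m, hm, e⟩ := hall _ ⟨_, hd, rfl⟩ (fun h => ne_one hs (by
      rw [map_mul, map_mul, map_inv, conj_eq_one_iff] at h; exact h))
    refine ⟨(c.φ d)⁻¹ * m, mul_mem (inv_mem (hC d)) hm, ?_⟩
    calc (c.φ d)⁻¹ * m * c.J * ((c.φ d)⁻¹ * m)⁻¹ = (c.φ d)⁻¹ * (m * c.J * m⁻¹) * c.φ d := by group
      _ = _ := by rw [e, map_mul, map_mul, map_inv]; group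
  have hJN : c.J ∈ N := c.hτ ▸ hC c.τ
  have htrans : ∀ t, orderOf t = 2 → ∃ m ∈ N, m * c.J * m⁻¹ = t := by
    intro t ht
    rcases Nat.even_or_odd (orderOf (c.J * t)) with he | ho
    · obtain ⟨hz, hzJ, hzt⟩ := middle_involution c.orderOf_J ht he
      obtain ⟨m, hm, e⟩ := hcent _ hz hzJ
      obtain ⟨m', hm', e'⟩ := hcent (m⁻¹ * t * m) (by
        have h := orderOf_conj m⁻¹ t
        rw [inv_inv, ht] at h
        exact h) (by
        show m⁻¹ * t * m * c.J = c.J * (m⁻¹ * t * m)
        rw [← e] at hzt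
        calc m⁻¹ * t * m * c.J = m⁻¹ * (t * (m * c.J * m⁻¹)) * m := by group
          _ = m⁻¹ * (m * c.J * m⁻¹ * t) * m := by rw [hzt.eq]
          _ = _ := by group)
      refine ⟨m * m', mul_mem hm hm', ?_⟩
      calc m * m' * c.J * (m * m')⁻¹ = m * (m' * c.J * m'⁻¹) * m⁻¹ := by group
        _ = t := by rw [e']; group
    · obtain ⟨d, hd, e⟩ := exists_conj_of_odd c.orderOf_J ht ho
      exact ⟨d, Subgroup.zpowers_le.2 (mul_mem hJN (hinv t (inv_sq_one ht))) hd, e⟩
  rw [eq_top_iff]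
  intro g _
  obtain ⟨m, hm, e⟩ := htrans (g * c.J * g⁻¹) (by rw [orderOf_conj, c.orderOf_J])
  obtain ⟨k, hk⟩ := c.exists_model (g := m⁻¹ * g) (by
    calc m⁻¹ * g * c.J = m⁻¹ * (g * c.J * g⁻¹) * g := by group
      _ = m⁻¹ * (m * c.J * m⁻¹) * g := by rw [e]
      _ = _ := by group)
  have := mul_mem hm (hC k)
  rwa [hk, mul_inv_cancel_left] at this

include c in
theorem isSimpleGroup : IsSimpleGroup G := by
  have : Nontrivial G := ⟨⟨c.J, 1, ne_one c.orderOf_J⟩⟩
  refine ⟨fun M hM => ?_⟩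
  rcases Nat.even_or_odd (Nat.card M) with he | ho
  · right
    rw [eq_top_iff, ← c.closure_involutions, Subgroup.closure_le]
    intro t (ht : t * t = 1)
    by_cases ht1 : t = 1
    · subst ht1; exact one_mem _
    obtain ⟨⟨j, hjM⟩, hj⟩ := exists_prime_orderOf_dvd_card' (G := M) 2
      (hp := ⟨Nat.prime_two⟩) (even_iff_two_dvd.1 he)
    rw [Subgroup.orderOf_mk] at hj
    obtain ⟨g, hg⟩ := c.exists_conj_J hj
    obtain ⟨g', hg'⟩ := c.exists_conj_J (orderOf_two_iff.2 ⟨ht, ht1⟩)
    have hJM : c.J ∈ M := by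
      have := hM.conj_mem j hjM g⁻¹
      rwa [← hg, show g⁻¹ * (g * c.J * g⁻¹) * g⁻¹⁻¹ = c.J by group] at this
    exact hg' ▸ hM.conj_mem _ hJM g'
  · left
    have hfix : ∀ n, ∀ m ∈ M, Commute (n * c.J * n⁻¹) m → m = 1 := by
      intro n m hm hc
      obtain ⟨k, hk⟩ := c.mem_centralizer_conj hc.symm
      by_contra hm1
      have hkM : c.φ k ∈ M := by
        have := hM.conj_mem m hm n⁻¹
        rwa [← hk, show n⁻¹ * (n * c.φ k * n⁻¹) * n⁻¹⁻¹ = c.φ k by group] at this
      have hodd : ∀ y, c.φ y ∈ M → y ^ 15 = 1 := by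
        intro y hy
        have h1 : orderOf y ∣ Nat.card M := by
          rw [← orderOf_injective c.φ c.inj]
          exact Subgroup.orderOf_dvd_natCard M hy
        have h2 : orderOf y ∣ 120 := model_card.2 ▸ orderOf_dvd_natCard y
        exact orderOf_dvd_iff_pow_eq_one.1 (five_card _ h2 (ho.of_dvd_nat h1))
      have hk1 : k ≠ 1 := fun h => hm1 (by rw [← hk, h, map_one]; group)
      have hk15 := hodd k hkM
      have h5 := five_odd k
      simp only [Bool.or_eq_true, decide_eq_true_eq, Bool.not_eq_true', decide_eq_false_iff_not, fiveTest,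
        Bool.and_eq_true] at h5
      have hinvol : ∀ y, c.φ y ∈ M → y ≠ 1 → y * y = 1 → False := fun y hy h1 h2 => by
        have h15 := hodd y hy
        rw [show (15 : ℕ) = 2 * 7 + 1 from rfl, pow_succ, pow_mul, sq, h2, one_pow, one_mul] at h15
        exact h1 h15
      simp only [List.any_eq_true, Bool.and_eq_true, decide_eq_true_eq] at h5
      rcases h5 with ((h | h) | ⟨g, -, hg1, hg2⟩) | ⟨g, -, hg1, hg2⟩
      · exact hinvol k hkM hk1 h
      · refine h ?_
        have h1 : ∀ b : Multiplicative (ZMod 2), b ^ 15 = 1 → b = 1 := by decide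
        exact h1 _ (congrArg Prod.fst hk15)
      · refine hinvol _ ?_ hg1 hg2
        simp only [map_mul, map_inv]
        exact mul_mem hkM (hM.conj_mem _ hkM _)
      · refine hinvol _ ?_ hg1 hg2
        simp only [map_mul, map_inv]
        exact mul_mem hkM (hM.conj_mem _ (mul_mem hkM hkM) _)
    have hS : ∀ s ∈ c.S, s ≠ 1 → ∀ m ∈ M, Commute s m → m = 1 := by
      intro s hs hs1
      obtain ⟨n, -, e⟩ := c.orbit_data.1 s hs hs1
      exact e ▸ hfix n
    classical
    obtain ⟨k, hk, hk1, hkτ⟩ : ∃ k ∈ c.Sd, k ≠ 1 ∧ k ≠ c.τ := by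
      by_contra h; push Not at h
      have : c.Sd ⊆ {1, c.τ} := fun k hk => by
        by_cases h1 : k = 1
        · simp [h1]
        · simp [h k hk h1]
      have := (Finset.card_le_card this).trans Finset.card_le_two
      rw [c.std.card] at this
      omega
    have hb : c.φ k ∈ c.S := ⟨k, hk, rfl⟩
    have hb1 : c.φ k ≠ 1 := fun h => hk1 (c.inj (h.trans (map_one c.φ).symm))
    refine eq_bot_of_four M (c.sq_S c.J_mem_S) (c.sq_S hb) (c.comm_S c.J_mem_S hb)
      (fun m hm => hM.conj_mem m hm _) (fun m hm => hM.conj_mem m hm _)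
      (hS _ c.J_mem_S (ne_one c.orderOf_J)) (hS _ hb hb1)
      (hS _ (mul_mem c.J_mem_S hb) fun h => hkτ (c.inj ?_))
    rw [c.hτ, ← inv_eq_of_mul_eq_one_right h, inv_eq c.orderOf_J]

include c in
theorem isoJ1 : Cfsg.Spor.IsoJ1 G := by
  have := c.isSimpleGroup
  exact Cfsg.Agent.J1Unique.iso_of_setup ⟨c.J, c.two,
    ((MulEquiv.subgroupCongr c.range.symm).trans (MonoidHom.ofInjective c.inj).symm)⟩

end Ctx

end Cfsg.Agent.CentralTwoAlt
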