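import Cfsg.Agent.Lib.CentralTwoAlt.Base
import Cfsg.Agent.Lib.Involutions.ElementaryCentralizers

/-!
# The case `m = 4`: nine points for the strongly embedded Sylow normalizer

`H = N(S)` has order `168`. Each involution outside `H` inverts the Sylow 7-subgroup of `H ∩ H^u`, and counting
the points fixed by such a subgroup leaves nine cosets.
-/

set_option autoImplicit false
set_option linter.all false

namespace Cfsg.Agent.CentralTwoAlt

open Cfsg.Agent.Involutions.Basic Cfsg.Agent.Involutions.StronglyEmbedded MulAction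

universe u v

/-- The hypotheses of the case `m = 4`. -/
structure Four (G : Type u) [Group G] (K : Type v) [Group K] [DecidableEq K] extends Ctx G K where
  sdNormal : ∀ k, ∀ a ∈ Sd, k * a * k⁻¹ ∈ Sd
  card24 : Nat.card K = 24
  nonsolvable : ¬ Group.IsSolvable G

namespace Four

variable {G : Type u} [Group G] [Finite G] {K : Type v} [Group K] [DecidableEq K] (F : Four G K)

/-- The normalizer of the Sylow 2-subgroup. -/
def H : Subgroup G := Subgroup.normalizer (F.S : Set G)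

theorem S_le_H : F.S ≤ F.H := Subgroup.le_normalizer

theorem S_conj {h s : G} (hh : h ∈ F.H) (hs : s ∈ F.S) : h * s * h⁻¹ ∈ F.S :=
  (Subgroup.mem_normalizer_iff.1 hh s).1 hs

theorem phi_mem_H (k : K) : F.φ k ∈ F.H := by
  refine Subgroup.mem_normalizer_iff.2 fun g => ⟨?_, ?_⟩
  · rintro ⟨a, ha, rfl⟩
    exact ⟨_, F.sdNormal k a ha, by simp⟩
  · rintro ⟨a, ha, e⟩
    refine ⟨_, F.sdNormal k⁻¹ a ha, ?_⟩
    simp only [map_mul, map_inv, e]; group

theorem centralizer_le_H {s g : G} (hs : s ∈ F.S) (hs1 : s ≠ 1) (h : Commute g s) : g ∈ F.H := by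
  obtain ⟨n, hn, e⟩ := F.orbit_data.1 s hs hs1
  obtain ⟨k, hk⟩ := F.mem_centralizer_conj (g := g) (n := n) (by rw [e]; exact h)
  rw [← hk]
  exact mul_mem (mul_mem hn (F.phi_mem_H k)) (inv_mem hn)

theorem card_H : Nat.card F.H = 168 := by
  have h : Subgroup.normalizer (F.S : Set G) ⊓ Subgroup.centralizer ({F.J} : Set G) =
      Subgroup.centralizer ({F.J} : Set G) := inf_eq_right.2 fun g hg => by
    obtain ⟨k, rfl⟩ := F.exists_model (Subgroup.mem_centralizer_singleton_iff.1 hg)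
    exact F.phi_mem_H k
  rw [H, F.orbit_data.2, h, F.card_centralizer, F.card24]

theorem mem_S_of_H {t : G} (ht : orderOf t = 2) (htH : t ∈ F.H) : t ∈ F.S :=
  Involutions.ElementaryCentralizers.mem_T_of_inv (T := F.syl) htH ht

include F in
theorem orderOf_dvd_of_commute {t g : G} (ht : orderOf t = 2) (h : Commute g t) : orderOf g ∣ 24 := by
  obtain ⟨n, rfl⟩ := F.exists_conj_J ht
  obtain ⟨k, rfl⟩ := F.mem_centralizer_conj h
  rw [orderOf_conj, orderOf_injective F.φ F.inj]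
  exact F.card24 ▸ orderOf_dvd_natCard k

theorem H_ne_top : F.H ≠ ⊤ := by
  intro h
  haveI : F.S.Normal := Subgroup.normalizer_eq_top_iff.1 h
  haveI : Group.IsSolvable F.S := Group.isSolvable_of_comm fun a b => Subtype.ext (F.comm_S a.2 b.2)
  have hq : Nat.card (G ⧸ F.S) = 21 := by
    have h1 := Subgroup.card_eq_card_quotient_mul_card_subgroup F.S
    rw [F.card_S, ← Subgroup.card_top (G := G), ← h, F.card_H] at h1
    omega
  haveI : IsZGroup (G ⧸ F.S) := IsZGroup.of_squarefree (by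
    rw [hq]; decide +kernel)
  exact F.nonsolvable (Group.isSolvable_of_ker_le_range F.S.subtype (QuotientGroup.mk' F.S) (by
    rw [QuotientGroup.ker_mk', Subgroup.range_subtype]))

theorem se : Cfsg.IsStronglyEmbedded F.H := by
  refine of_conj F.H_ne_top (by rw [F.card_H]; decide) fun t htH ht g hg => ?_
  have hs := F.mem_S_of_H ht htH
  have hs' := F.mem_S_of_H (by rw [orderOf_conj, ht]) hg
  obtain ⟨n, hn, e⟩ := F.conj_in_normalizer hs hs' rfl
  have h : Commute (n⁻¹ * g) t := by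
    show n⁻¹ * g * t = t * (n⁻¹ * g)
    calc n⁻¹ * g * t = n⁻¹ * (g * t * g⁻¹) * g := by group
      _ = n⁻¹ * (n * t * n⁻¹) * g := by rw [e]
      _ = _ := by group
  have := mul_mem hn (F.centralizer_le_H hs (ne_one ht) h)
  rwa [mul_inv_cancel_left] at this

/-- The base point. -/
def o : G ⧸ F.H := ((1 : G) : G ⧸ F.H)

theorem smul_o_iff {g : G} : g • F.o = F.o ↔ g ∈ F.H := by
  show ((g * 1 : G) : G ⧸ F.H) = _ ↔ _
  rw [o, mul_one, QuotientGroup.eq, mul_one, inv_mem_iff]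

/-- The common stabilizer of the base point and `y`. -/
def D (y : G ⧸ F.H) : Subgroup G := F.H ⊓ stabilizer G y

theorem mem_D {y : G ⧸ F.H} {g : G} : g ∈ F.D y ↔ g • F.o = F.o ∧ g • y = y := by
  rw [D, Subgroup.mem_inf, mem_stabilizer_iff, F.smul_o_iff]

theorem no_involution_D {y : G ⧸ F.H} (hy : y ≠ F.o) {t : G} (ht : orderOf t = 2) : t ∉ F.D y :=
  fun h => hy ((existsUnique_fixed F.se ht).unique (F.mem_D.1 h).2 (F.mem_D.1 h).1)

theorem odd_D {y : G ⧸ F.H} (hy : y ≠ F.o) : Odd (Nat.card (F.D y)) := by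
  by_contra h
  rw [Nat.not_odd_iff_even] at h
  obtain ⟨t, htD, ht⟩ := exists_involution_mem h
  exact F.no_involution_D hy ht htD

theorem card_involutions_H : Nat.card {t : G // orderOf t = 2 ∧ t ∈ F.H} = 7 := by
  classical
  have e : {t : G // orderOf t = 2 ∧ t ∈ F.H} ≃ {k // k ∈ F.Sd.erase 1} := by
    refine (Equiv.ofBijective (fun k : {k // k ∈ F.Sd.erase 1} =>
      (⟨F.φ k, ?_, ?_⟩ : {t : G // orderOf t = 2 ∧ t ∈ F.H})) ⟨?_, ?_⟩).symm
    · exact F.orderOf_of_mem_S ⟨_, (Finset.mem_erase.1 k.2).2, rfl⟩ fun h =>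
        (Finset.mem_erase.1 k.2).1 (F.inj (h.trans (map_one _).symm))
    · exact F.phi_mem_H _
    · exact fun a b h => Subtype.ext (F.inj (congrArg Subtype.val h))
    · rintro ⟨t, ht, htH⟩
      obtain ⟨k, hk, e⟩ := F.mem_S_of_H ht htH
      exact ⟨⟨k, Finset.mem_erase.2 ⟨fun h => ne_one ht (by rw [← e, h, map_one]), hk⟩⟩, Subtype.ext e⟩
  rw [Nat.card_congr e, Nat.card_eq_fintype_card, Fintype.card_coe, Finset.card_erase_of_mem F.std.one, F.std.card]

/-- The involutions interchanging the base point with `y`. -/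
abbrev Sw (y : G ⧸ F.H) : Type u := {i : G // orderOf i = 2 ∧ i • F.o = y}

theorem card_Sw {y : G ⧸ F.H} (hy : y ≠ F.o) : Nat.card (F.Sw y) = 7 := by
  rw [card_swap F.se F.o y (Ne.symm hy), F.card_involutions_H]

theorem swap_back {y : G ⧸ F.H} (i : F.Sw y) : (i : G) • y = F.o := by
  have h : ((i : G) * i) • F.o = (i : G) • y := by rw [mul_smul, i.2.2]
  rw [← h, inv_sq_one i.2.1, one_smul]

theorem mul_mem_D {y : G ⧸ F.H} (i j : F.Sw y) : (i : G) * j ∈ F.D y :=
  F.mem_D.2 ⟨by rw [mul_smul, j.2.2, F.swap_back i], by rw [mul_smul, F.swap_back j, i.2.2]⟩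

theorem card_D {y : G ⧸ F.H} (hy : y ≠ F.o) : Nat.card (F.D y) = 7 ∨ Nat.card (F.D y) = 21 := by
  have h1 : Nat.card (F.D y) ∣ 168 := F.card_H ▸ Subgroup.card_dvd_of_le inf_le_left
  have h7 : 7 ≤ Nat.card (F.D y) := by
    rw [← F.card_Sw hy]
    obtain ⟨i⟩ : Nonempty (F.Sw y) := (Nat.card_pos_iff.1 (by rw [F.card_Sw hy]; norm_num)).1
    exact Nat.card_le_card_of_injective (fun j : F.Sw y => (⟨_, F.mul_mem_D i j⟩ : F.D y))
      fun a b h => Subtype.ext (mul_left_cancel (congrArg Subtype.val h))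
  have h2 : Nat.card (F.D y) ∣ 21 := (Nat.coprime_two_right.2 (F.odd_D hy)).pow_right 3 |>.dvd_of_dvd_mul_left
    (show Nat.card (F.D y) ∣ 2 ^ 3 * 21 by norm_num; exact h1)
  have h3 := Nat.le_of_dvd (by norm_num) h2
  interval_cases h : Nat.card (F.D y) <;> omega

/-- Subgroups of order seven of `H`. -/
def IsSeven (Q : Subgroup G) : Prop := Q ≤ F.H ∧ Nat.card Q = 7

theorem orderOf_seven {Q : Subgroup G} (hQ : F.IsSeven Q) {q : G} (hq : q ∈ Q) (hq1 : q ≠ 1) : orderOf q = 7 := by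
  have := Subgroup.orderOf_dvd_natCard Q hq
  rw [hQ.2] at this
  exact ((Nat.dvd_prime (by norm_num)).1 this).resolve_left fun h => hq1 (orderOf_eq_one_iff.1 h)

theorem map_eq_of {h : G} {Q R : Subgroup G} (hle : ∀ q ∈ Q, h * q * h⁻¹ ∈ R) (hcard : Nat.card R ≤ Nat.card Q) :
    Q.map (MulAut.conj h).toMonoidHom = R := by
  refine Subgroup.eq_of_le_of_card_ge ?_ ?_
  · rintro _ ⟨q, hq, rfl⟩; exact hle q hq
  · rwa [Subgroup.card_map_of_injective (MulEquiv.injective _)]

theorem IsSeven.map {Q : Subgroup G} (hQ : F.IsSeven Q) {h : G} (hh : h ∈ F.H) :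
    F.IsSeven (Q.map (MulAut.conj h).toMonoidHom) := by
  refine ⟨?_, by rw [Subgroup.card_map_of_injective (MulEquiv.injective _), hQ.2]⟩
  rintro _ ⟨q, hq, rfl⟩
  exact mul_mem (mul_mem hh (hQ.1 hq)) (inv_mem hh)

theorem not_commute_J {Q : Subgroup G} (hQ : F.IsSeven Q) {q : G} (hq : q ∈ Q) (h : Commute q F.J) : q = 1 := by
  by_contra h1
  have := F.orderOf_dvd_of_commute F.orderOf_J h
  rw [F.orderOf_seven hQ hq h1] at this
  norm_num at this

theorem sevens : Nat.card {Q : Subgroup G // F.IsSeven Q} = 8 ∧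
    (∀ Q R, F.IsSeven Q → F.IsSeven R → ∃ h ∈ F.H, Q.map (MulAut.conj h).toMonoidHom = R) ∧
    (∀ Q, F.IsSeven Q → Nat.card (F.H ⊓ Subgroup.normalizer (Q : Set G) : Subgroup G) = 21) := by
  haveI : Fact (Nat.Prime 7) := ⟨by norm_num⟩
  have hf : (Nat.card F.H).factorization 7 = 1 := by
    rw [F.card_H]
    have h1 := ((by norm_num : Nat.Prime 7).pow_dvd_iff_le_factorization (k := 1) (n := 168) (by norm_num)).1 (by norm_num)
    have h2 := mt ((by norm_num : Nat.Prime 7).pow_dvd_iff_le_factorization (k := 2) (n := 168) (by norm_num)).2 (by norm_num)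
    omega
  have hsyl : ∀ P : Sylow 7 F.H, F.IsSeven ((P : Subgroup F.H).map F.H.subtype) := fun P =>
    ⟨Subgroup.map_subtype_le _, by
      rw [Subgroup.card_map_of_injective F.H.subtype_injective, P.card_eq_multiplicity, hf, pow_one]⟩
  have mk : ∀ Q, F.IsSeven Q → ∃ P : Sylow 7 F.H, (P : Subgroup F.H) = Q.subgroupOf F.H := fun Q hQ =>
    ⟨Sylow.ofCard (Q.subgroupOf F.H) (by
      rw [Nat.card_congr (Subgroup.subgroupOfEquivOfLe hQ.1).toEquiv, hQ.2, hf, pow_one]), Sylow.coe_ofCard _ _⟩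
  have hnum : Nat.card (Sylow 7 F.H) = 8 := by
    obtain ⟨P⟩ : Nonempty (Sylow 7 F.H) := inferInstance
    have h1 : Nat.card (Sylow 7 F.H) % 7 = 1 := card_sylow_modEq_one 7 F.H
    have h2 : Nat.card (Sylow 7 F.H) ∣ 24 := by
      have h := Sylow.card_dvd_index P
      have e := (P : Subgroup F.H).index_mul_card
      rw [P.card_eq_multiplicity, hf, pow_one, F.card_H] at e
      rwa [show (P : Subgroup F.H).index = 24 by omega] at h
    have h3 : Nat.card (Sylow 7 F.H) ≠ 1 := by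
      intro h
      haveI : Subsingleton (Sylow 7 F.H) := (Nat.card_eq_one_iff_unique.1 h).1
      haveI := Sylow.normal_of_subsingleton (P := P)
      have hQ := hsyl P
      obtain ⟨q, hq⟩ := exists_prime_orderOf_dvd_card' (G := ((P : Subgroup F.H).map F.H.subtype : Subgroup G)) 7
        (by rw [hQ.2])
      obtain ⟨q, hqQ⟩ := q
      rw [Subgroup.orderOf_mk] at hq
      have hq1 : q ≠ 1 := by rintro rfl; rw [orderOf_one] at hq; norm_num at hq
      refine hq1 (F.not_commute_J hQ hqQ ?_)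
      set w := q * F.J * q⁻¹ * F.J⁻¹ with hw
      have hwS : w ∈ F.S := mul_mem (F.S_conj (hQ.1 hqQ) F.J_mem_S) (inv_mem F.J_mem_S)
      have hwQ : w ∈ ((P : Subgroup F.H).map F.H.subtype : Subgroup G) := by
        rw [hw, show q * F.J * q⁻¹ * F.J⁻¹ = q * (F.J * q⁻¹ * F.J⁻¹) by group]
        refine mul_mem hqQ ?_
        obtain ⟨p, hp, e⟩ := inv_mem hqQ
        refine ⟨⟨F.J, F.S_le_H F.J_mem_S⟩ * p * ⟨F.J, F.S_le_H F.J_mem_S⟩⁻¹,
          Subgroup.Normal.conj_mem inferInstance p hp _, ?_⟩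
        rw [← e]; rfl
      have : w = 1 := by
        by_contra hw1
        have := F.orderOf_of_mem_S hwS hw1
        rw [F.orderOf_seven hQ hwQ hw1] at this
        norm_num at this
      show q * F.J = F.J * q
      rw [hw, mul_inv_eq_one, mul_inv_eq_iff_eq_mul] at this
      exact this
    have h4 := Nat.le_of_dvd (by norm_num) h2
    interval_cases h : Nat.card (Sylow 7 F.H) <;> omega
  refine ⟨?_, fun Q R hQ hR => ?_, fun Q hQ => ?_⟩
  · rw [← hnum]
    refine (Nat.card_congr (Equiv.ofBijective (fun P : Sylow 7 F.H =>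
      (⟨_, hsyl P⟩ : {Q : Subgroup G // F.IsSeven Q})) ⟨fun P P' h => ?_, fun ⟨Q, hQ⟩ => ?_⟩)).symm
    · exact Sylow.ext (Subgroup.map_injective F.H.subtype_injective (congrArg Subtype.val h))
    · obtain ⟨P, hP⟩ := mk Q hQ
      exact ⟨P, Subtype.ext (by simp only [hP]; exact Subgroup.map_subgroupOf_eq_of_le hQ.1)⟩
  · obtain ⟨P, hP⟩ := mk Q hQ
    obtain ⟨P', hP'⟩ := mk R hR
    obtain ⟨h, hh⟩ := MulAction.exists_smul_eq F.H P P'
    refine ⟨h, h.2, map_eq_of (fun q hq => ?_) (by rw [hR.2, hQ.2])⟩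
    have : h * ⟨q, hQ.1 hq⟩ * h⁻¹ ∈ (P' : Subgroup F.H) := by
      rw [← hh, Sylow.coe_subgroup_smul]
      exact ⟨⟨q, hQ.1 hq⟩, hP ▸ Subgroup.mem_subgroupOf.2 hq, rfl⟩
    rw [hP', Subgroup.mem_subgroupOf] at this
    exact this
  · obtain ⟨P, hP⟩ := mk Q hQ
    have h1 : (Subgroup.normalizer ((Q.subgroupOf F.H : Subgroup F.H) : Set F.H)) =
        (F.H ⊓ Subgroup.normalizer (Q : Set G)).subgroupOf F.H := by
      ext h
      simp only [Subgroup.mem_normalizer_iff, Subgroup.mem_subgroupOf, Subgroup.mem_inf, h.2, true_and]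
      refine ⟨fun hh g => ?_, fun hh g => hh g⟩
      by_cases hg : g ∈ F.H
      · exact hh ⟨g, hg⟩
      · refine iff_of_false (fun e => hg (hQ.1 e)) fun e => hg ?_
        have := mul_mem (mul_mem (inv_mem h.2) (hQ.1 e)) h.2
        rwa [show (h : G)⁻¹ * (h * g * (h : G)⁻¹) * h = g by group] at this
    have h2 := Sylow.card_eq_index_normalizer P
    rw [hnum, show (P : Set F.H) = ((Q.subgroupOf F.H : Subgroup F.H) : Set F.H) by rw [← hP]; rfl, h1] at h2
    have h3 := ((F.H ⊓ Subgroup.normalizer (Q : Set G)).subgroupOf F.H).index_mul_card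
    rw [← h2, F.card_H, Nat.card_congr (Subgroup.subgroupOfEquivOfLe inf_le_left).toEquiv] at h3
    omega

end Four

end Cfsg.Agent.CentralTwoAlt
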