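import Cfsg.Agent.Lib.CentralTwoAlt.Four

/-!
# The case `m = 4`: there are nine cosets
-/

set_option autoImplicit false
set_option linter.all false

namespace Cfsg.Agent.CentralTwoAlt

open Cfsg.Agent.Involutions.Basic Cfsg.Agent.Involutions.StronglyEmbedded MulAction

universe u v

namespace Four

variable {G : Type u} [Group G] [Finite G] {K : Type v} [Group K] [DecidableEq K] (F : Four G K)

theorem orderOf_phi_x : orderOf (F.φ F.x) = 3 := by
  have : Fact (Nat.Prime 3) := ⟨Nat.prime_three⟩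
  refine orderOf_eq_prime ?_ fun h => F.std.hx.2 (F.inj (h.trans (map_one _).symm))
  rw [← map_pow, pow_succ, sq, F.std.hx.1, map_one]

/-- A subgroup of order seven of `H` normalized by the element of order three. -/
theorem exists_seven : ∃ P, F.IsSeven P ∧ F.φ F.x ∈ Subgroup.normalizer (P : Set G) := by
  classical
  have : Fact (Nat.Prime 3) := ⟨Nat.prime_three⟩
  let A := Subgroup.zpowers (F.φ F.x)
  have hA : IsPGroup 3 A := IsPGroup.of_card (n := 1) (by rw [Nat.card_zpowers, F.orderOf_phi_x, pow_one])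
  have hAH : A ≤ F.H := Subgroup.zpowers_le.2 (F.phi_mem_H _)
  let act : MulAction A {Q : Subgroup G // F.IsSeven Q} :=
    { smul := fun a Q => ⟨_, Four.IsSeven.map F Q.2 (hAH a.2)⟩
      one_smul := fun Q => Subtype.ext (by
        show Q.1.map (MulAut.conj ((1 : A) : G)).toMonoidHom = Q.1
        refine map_eq_of (fun q hq => ?_) le_rfl
        simpa using hq)
      mul_smul := fun a b Q => Subtype.ext (by
        show Q.1.map (MulAut.conj ((a * b : A) : G)).toMonoidHom =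
          (Q.1.map (MulAut.conj (b : G)).toMonoidHom).map (MulAut.conj (a : G)).toMonoidHom
        rw [Subgroup.map_map]
        congr 1
        ext g
        show (a : G) * b * g * ((a : G) * b)⁻¹ = a * (b * g * (b : G)⁻¹) * (a : G)⁻¹
        group) }
  obtain ⟨P, hP⟩ := hA.nonempty_fixed_point_of_prime_not_dvd_card {Q : Subgroup G // F.IsSeven Q}
    (by rw [F.sevens.1]; norm_num)
  refine ⟨P, P.2, Subgroup.mem_normalizer_iff.2 fun g => ?_⟩
  have h : P.1.map (MulAut.conj (F.φ F.x)).toMonoidHom = P.1 :=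
    congrArg Subtype.val (hP ⟨F.φ F.x, Subgroup.mem_zpowers _⟩)
  constructor
  · intro hg
    rw [← h]
    exact ⟨g, hg, rfl⟩
  · intro hg
    rw [← h] at hg
    obtain ⟨q, hq, e⟩ := hg
    change F.φ F.x * q * (F.φ F.x)⁻¹ = _ at e
    rw [mul_left_cancel (mul_right_cancel e)] at hq
    exact hq

theorem not_commute_x {P : Subgroup G} (hP : F.IsSeven P) {p : G} (hp : p ∈ P) (h : Commute (F.φ F.x) p) :
    p = 1 := by
  refine F.not_commute_J hP hp ?_
  have hs := F.S_conj (hP.1 hp) F.J_mem_S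
  obtain ⟨k, hk, e⟩ := hs
  have hfix : F.x * k * F.x⁻¹ = k := F.inj (by
    rw [map_mul, map_mul, map_inv, e]
    calc F.φ F.x * (p * F.J * p⁻¹) * (F.φ F.x)⁻¹ = (F.φ F.x * p) * F.J * (F.φ F.x * p)⁻¹ := by group
      _ = (p * F.φ F.x) * F.J * (p * F.φ F.x)⁻¹ := by rw [h.eq]
      _ = p * (F.φ F.x * F.J) * (F.φ F.x)⁻¹ * p⁻¹ := by group
      _ = _ := by rw [F.phi_comm]; group)
  show p * F.J = F.J * p
  rcases F.std.fix k hk hfix with rfl | rfl
  · rw [map_one, eq_comm, conj_eq_one_iff] at e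
    exact absurd e (ne_one F.orderOf_J)
  · rw [F.hτ, eq_comm, mul_inv_eq_iff_eq_mul] at e
    exact e

theorem cent_seven {Q : Subgroup G} (hQ : F.IsSeven Q) {h : G} (hh : h ∈ F.H)
    (hc : ∀ q ∈ Q, h * q = q * h) : h ∈ Q := by
  -- it suffices to treat a subgroup normalized by `x`
  obtain ⟨P, hP, hx⟩ := F.exists_seven
  suffices key : ∀ h ∈ F.H, (∀ q ∈ P, h * q = q * h) → h ∈ P by
    obtain ⟨g, hg, e⟩ := F.sevens.2.1 P Q hP hQ
    have hmem : ∀ p ∈ P, g * p * g⁻¹ ∈ Q := fun p hp => e ▸ ⟨p, hp, rfl⟩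
    have h1 := key (g⁻¹ * h * g) (mul_mem (mul_mem (inv_mem hg) hh) hg) fun p hp => by
      calc g⁻¹ * h * g * p = g⁻¹ * (h * (g * p * g⁻¹)) * g := by group
        _ = g⁻¹ * (g * p * g⁻¹ * h) * g := by rw [hc _ (hmem p hp)]
        _ = _ := by group
    have := hmem _ h1
    rwa [show g * (g⁻¹ * h * g) * g⁻¹ = h by group] at this
  intro h hh hc
  set C := F.H ⊓ Subgroup.centralizer (P : Set G) with hC
  have hPC : P ≤ C := le_inf hP.1 fun p hp q hq => by
    obtain ⟨a, ha⟩ : IsCyclic P := isCyclic_of_prime_card (hp := ⟨by norm_num⟩) hP.2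
    obtain ⟨i, hi⟩ := Subgroup.mem_zpowers_iff.1 (ha ⟨p, hp⟩)
    obtain ⟨j, hj⟩ := Subgroup.mem_zpowers_iff.1 (ha ⟨q, hq⟩)
    exact congrArg Subtype.val (show (⟨q, hq⟩ : P) * ⟨p, hp⟩ = ⟨p, hp⟩ * ⟨q, hq⟩ by
      rw [← hi, ← hj, ← zpow_add, ← zpow_add, add_comm])
  have hCN : C ≤ F.H ⊓ Subgroup.normalizer (P : Set G) := inf_le_inf_left _ fun g hg =>
    Subgroup.mem_normalizer_iff.2 fun q => by
      constructor
      · intro hq
        rwa [(hg q hq).symm, mul_inv_cancel_right]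
      · intro hq
        have h1 := hg _ hq
        rw [inv_mul_cancel_right] at h1
        have h2 : g * q * g⁻¹ = q := mul_left_cancel h1.symm
        rwa [h2] at hq
  have hdiv := Subgroup.card_dvd_of_le hCN
  rw [F.sevens.2.2 P hP] at hdiv
  have h7 := Subgroup.card_dvd_of_le hPC
  rw [hP.2] at h7
  rcases (show Nat.card C = 7 ∨ Nat.card C = 21 by
    have := Nat.le_of_dvd (by norm_num) hdiv
    interval_cases hc : Nat.card C <;> omega) with h1 | h1
  · rw [Subgroup.eq_of_le_of_card_ge hPC (by rw [hP.2, h1])]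
    exact ⟨hh, fun q hq => (hc q hq).symm⟩
  · exfalso
    have e := Subgroup.eq_of_le_of_card_ge hCN (by rw [h1, F.sevens.2.2 P hP])
    have hxC : F.φ F.x ∈ C := e ▸ ⟨F.phi_mem_H _, hx⟩
    obtain ⟨⟨p, hp⟩, ho⟩ := exists_prime_orderOf_dvd_card' (G := P) 7 (hp := ⟨by norm_num⟩) (by rw [hP.2])
    rw [Subgroup.orderOf_mk] at ho
    rw [F.not_commute_x hP hp (hxC.2 p hp).symm, orderOf_one] at ho
    norm_num at ho

theorem D_seven {y : G ⧸ F.H} (hy : y ≠ F.o) :
    ∃ Q, F.IsSeven Q ∧ Q ≤ F.D y ∧ ∀ R, F.IsSeven R → R ≤ F.D y → R = Q := by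
  haveI : Fact (Nat.Prime 7) := ⟨by norm_num⟩
  have hf : (Nat.card (F.D y)).factorization 7 = 1 := by
    rcases F.card_D hy with h | h <;> rw [h]
    · exact Nat.Prime.factorization_self (by norm_num)
    · have h1 := ((by norm_num : Nat.Prime 7).pow_dvd_iff_le_factorization (k := 1) (n := 21) (by norm_num)).1 (by norm_num)
      have h2 := mt ((by norm_num : Nat.Prime 7).pow_dvd_iff_le_factorization (k := 2) (n := 21) (by norm_num)).2 (by norm_num)
      omega
  have h1 : ∀ P : Sylow 7 (F.D y), True := fun _ => trivial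
  obtain ⟨P⟩ : Nonempty (Sylow 7 (F.D y)) := inferInstance
  haveI : Subsingleton (Sylow 7 (F.D y)) := by
    have h1 := card_sylow_modEq_one 7 (F.D y)
    have h2 := Sylow.card_dvd_index P
    have e := (P : Subgroup (F.D y)).index_mul_card
    rw [P.card_eq_multiplicity, hf, pow_one] at e
    have h3 : (P : Subgroup (F.D y)).index ≤ 3 := by rcases F.card_D hy with h | h <;> omega
    have h3' : 0 < (P : Subgroup (F.D y)).index := by
      have := Nat.card_pos (α := F.D y); omega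
    have h4 := (Nat.le_of_dvd h3' h2).trans h3
    rw [Nat.ModEq] at h1
    have : Nat.card (Sylow 7 (F.D y)) = 1 := by omega
    exact (Nat.card_eq_one_iff_unique.1 this).1
  refine ⟨(P : Subgroup (F.D y)).map (F.D y).subtype, ⟨(Subgroup.map_subtype_le _).trans inf_le_left, ?_⟩,
    Subgroup.map_subtype_le _, fun R hR hle => ?_⟩
  · rw [Subgroup.card_map_of_injective (F.D y).subtype_injective, P.card_eq_multiplicity, hf, pow_one]
  · let P' : Sylow 7 (F.D y) := Sylow.ofCard (R.subgroupOf (F.D y)) (by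
      rw [Nat.card_congr (Subgroup.subgroupOfEquivOfLe hle).toEquiv, hR.2, hf, pow_one])
    rw [Subsingleton.elim P P', Sylow.coe_ofCard, Subgroup.map_subgroupOf_eq_of_le hle]

/-- The subgroup of order seven fixing a point besides the base point. -/
noncomputable def Q {y : G ⧸ F.H} (hy : y ≠ F.o) : Subgroup G := (F.D_seven hy).choose

theorem Q_seven {y : G ⧸ F.H} (hy : y ≠ F.o) : F.IsSeven (F.Q hy) := (F.D_seven hy).choose_spec.1

theorem Q_le {y : G ⧸ F.H} (hy : y ≠ F.o) : F.Q hy ≤ F.D y := (F.D_seven hy).choose_spec.2.1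

theorem Q_unique {y : G ⧸ F.H} (hy : y ≠ F.o) {R : Subgroup G} (hR : F.IsSeven R) (h : R ≤ F.D y) :
    R = F.Q hy := (F.D_seven hy).choose_spec.2.2 R hR h

theorem conj_Q {y : G ⧸ F.H} (hy : y ≠ F.o) {g : G} (hg : ∀ d ∈ F.D y, g * d * g⁻¹ ∈ F.D y) {q : G}
    (hq : q ∈ F.Q hy) : g * q * g⁻¹ ∈ F.Q hy := by
  have hle : (F.Q hy).map (MulAut.conj g).toMonoidHom ≤ F.D y := by
    rintro _ ⟨a, ha, rfl⟩; exact hg a (F.Q_le hy ha)
  rw [← F.Q_unique hy ⟨hle.trans inf_le_left,
    by rw [Subgroup.card_map_of_injective (MulEquiv.injective _), (F.Q_seven hy).2]⟩ hle]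
  exact ⟨q, hq, rfl⟩

/-- An involution interchanging the base point with `y` inverts the subgroup of order seven fixing both. -/
theorem swap_inverts {y : G ⧸ F.H} (hy : y ≠ F.o) (i : F.Sw y) {q : G} (hq : q ∈ F.Q hy) :
    (i : G) * q * (i : G)⁻¹ = q⁻¹ := by
  have hi : (i : G) * i = 1 := inv_sq_one i.2.1
  have hiD : ∀ d ∈ F.D y, (i : G) * d * (i : G)⁻¹ ∈ F.D y := fun d hd => by
    obtain ⟨h1, h2⟩ := F.mem_D.1 hd
    rw [inv_eq i.2.1]
    exact F.mem_D.2 ⟨by rw [mul_smul, mul_smul, i.2.2, h2, F.swap_back i],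
      by rw [mul_smul, mul_smul, F.swap_back i, h1, i.2.2]⟩
  obtain ⟨⟨a, haQ⟩, ha⟩ := exists_prime_orderOf_dvd_card' (G := F.Q hy) 7 (hp := ⟨by norm_num⟩)
    (by rw [(F.Q_seven hy).2])
  rw [Subgroup.orderOf_mk] at ha
  have hgen : F.Q hy = Subgroup.zpowers a := (Subgroup.eq_of_le_of_card_ge (Subgroup.zpowers_le.2 haQ)
    (by rw [Nat.card_zpowers, ha, (F.Q_seven hy).2])).symm
  have pw : ∀ g : G, (∀ q ∈ F.Q hy, g * q * g⁻¹ ∈ F.Q hy) → ∃ e : ℤ, ∀ q ∈ F.Q hy, g * q * g⁻¹ = q ^ e := by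
    intro g hg
    obtain ⟨e, he⟩ := Subgroup.mem_zpowers_iff.1 (hgen ▸ hg a haQ)
    refine ⟨e, fun q hq => ?_⟩
    obtain ⟨j, rfl⟩ := Subgroup.mem_zpowers_iff.1 (hgen ▸ hq)
    rw [← conj_zpow, ← he, ← zpow_mul, ← zpow_mul, mul_comm]
  have hall : ∀ j : F.Sw y, (i : G) * j ∈ F.Q hy := by
    intro j
    set z := (i : G) * j with hz
    have hzD := F.mul_mem_D i j
    have hzi : z⁻¹ = (i : G) * z * (i : G)⁻¹ := by
      rw [hz, mul_inv_rev, inv_eq i.2.1, inv_eq j.2.1, ← mul_assoc (i : G) i, hi, one_mul]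
    obtain ⟨e, he⟩ := pw i (fun q hq => F.conj_Q hy hiD hq)
    obtain ⟨r, hr⟩ := pw z (fun q hq => F.conj_Q hy (fun d hd => mul_mem (mul_mem hzD hd) (inv_mem hzD)) hq)
    have hz2 : z * z ∈ F.Q hy := by
      refine F.cent_seven (F.Q_seven hy) (mul_mem hzD.1 hzD.1) fun q hq => ?_
      have hq' : (i : G) * q * (i : G)⁻¹ ∈ F.Q hy := F.conj_Q hy hiD hq
      have hqq : (i : G) * (i * q * (i : G)⁻¹) * (i : G)⁻¹ = q := by
        rw [inv_eq i.2.1]
        calc (i : G) * (i * q * i) * i = (i : G) * i * q * ((i : G) * i) := by group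
          _ = q := by rw [hi]; group
      have key : z⁻¹ * q * z = z * q * z⁻¹ := by
        calc z⁻¹ * q * z = (i : G) * z * (i : G)⁻¹ * q * ((i : G) * z * (i : G)⁻¹)⁻¹ := by rw [← hzi, inv_inv]
          _ = (i : G) * (z * ((i : G)⁻¹ * q * i) * z⁻¹) * (i : G)⁻¹ := by group
          _ = (i : G) * ((i : G) * q * (i : G)⁻¹) ^ r * (i : G)⁻¹ := by
              rw [inv_eq i.2.1] at hq' ⊢; rw [hr _ hq']
          _ = ((i : G) * (i * q * (i : G)⁻¹) * (i : G)⁻¹) ^ r := conj_zpow.symm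
          _ = z * q * z⁻¹ := by rw [hqq, hr q hq]
      calc z * z * q = z * (z * q * z⁻¹) * z := by group
        _ = z * (z⁻¹ * q * z) * z := by rw [key]
        _ = _ := by group
    have hodd : Odd (orderOf z) :=
      (F.odd_D hy).of_dvd_nat (Subgroup.orderOf_dvd_natCard _ hzD)
    obtain ⟨k, hk⟩ := hodd
    have h1 : (z * z) ^ (k + 1) = z := by
      rw [← sq, ← pow_mul, show 2 * (k + 1) = orderOf z + 1 by omega, pow_succ, pow_orderOf_eq_one, one_mul]
    exact h1 ▸ pow_mem hz2 _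
  obtain ⟨j, hj⟩ : ∃ j : F.Sw y, (i : G) * j = q := by
    have hbij : Function.Bijective (fun j : F.Sw y => (⟨_, hall j⟩ : F.Q hy)) :=
      (Nat.bijective_iff_injective_and_card _).2 ⟨fun a b h => Subtype.ext
        (mul_left_cancel (congrArg Subtype.val h)), by rw [F.card_Sw hy, (F.Q_seven hy).2]⟩
    obtain ⟨j, hj⟩ := hbij.2 ⟨q, hq⟩
    exact ⟨j, congrArg Subtype.val hj⟩
  rw [← hj, ← mul_assoc, hi, one_mul, mul_inv_rev, inv_eq i.2.1, inv_eq j.2.1]

theorem exists_ne_o : ∃ y : G ⧸ F.H, y ≠ F.o := by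
  obtain ⟨u, hu, -⟩ := exists_involution_notMem F.se
  exact ⟨(u : G ⧸ F.H), fun h => hu (F.smul_o_iff.1 (by
    show ((u * 1 : G) : G ⧸ F.H) = F.o
    rw [mul_one]; exact h))⟩

/-- The points fixed by a subgroup. -/
def Fix (P : Subgroup G) : Set (G ⧸ F.H) := {y | ∀ p ∈ P, p • y = y}

theorem o_mem_Fix {P : Subgroup G} (hP : F.IsSeven P) : F.o ∈ F.Fix P := fun _ hp => F.smul_o_iff.2 (hP.1 hp)

theorem nine : ∃ P, F.IsSeven P ∧ F.φ F.x ∈ Subgroup.normalizer (P : Set G) ∧
    (∃ a, a ≠ F.o ∧ F.Fix P = {F.o, a}) ∧ Nat.card (G ⧸ F.H) = 9 := by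
  classical
  haveI := Fintype.ofFinite (G ⧸ F.H)
  haveI : Fact (Nat.Prime 7) := ⟨by norm_num⟩
  obtain ⟨P, hP, hx⟩ := F.exists_seven
  refine ⟨P, hP, hx, ?_⟩
  set N := Subgroup.normalizer (P : Set G) with hN
  set f := (F.Fix P).ncard with hf
  -- moving a point to one fixed by `P`
  obtain ⟨y₀, hy₀⟩ := F.exists_ne_o
  obtain ⟨h₀, hh₀, e₀⟩ := F.sevens.2.1 _ P (F.Q_seven hy₀) hP
  set a := h₀ • y₀ with ha
  have hao : a ≠ F.o := fun h => hy₀ (by
    rw [← F.smul_o_iff.2 (inv_mem hh₀), ← h, ha, inv_smul_smul])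
  have haP : P ≤ F.D a := by
    rw [← e₀]
    rintro _ ⟨q, hq, rfl⟩
    obtain ⟨h1, h2⟩ := F.mem_D.1 (F.Q_le hy₀ hq)
    show h₀ * q * h₀⁻¹ ∈ F.D a
    exact F.mem_D.2 ⟨F.smul_o_iff.2 (mul_mem (mul_mem hh₀ (F.smul_o_iff.1 h1)) (inv_mem hh₀)),
      by rw [ha, mul_smul, mul_smul, inv_smul_smul, h2]⟩
  have hQa : P = F.Q hao := F.Q_unique hao hP haP
  obtain ⟨u⟩ : Nonempty (F.Sw a) := (Nat.card_pos_iff.1 (by rw [F.card_Sw hao]; norm_num)).1
  have huP : ∀ p ∈ P, (u : G) * p * (u : G)⁻¹ = p⁻¹ := fun p hp => F.swap_inverts hao u (hQa ▸ hp)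
  have huN : (u : G) ∈ N := Subgroup.mem_normalizer_iff.2 fun g => by
    refine ⟨fun hg => by rw [huP g hg]; exact inv_mem hg, fun hg => ?_⟩
    have := huP _ hg
    rw [show (u : G) * (u * g * (u : G)⁻¹) * (u : G)⁻¹ = g by
      rw [inv_eq u.2.1]
      calc (u : G) * (u * g * u) * u = (u : G) * u * g * ((u : G) * u) := by group
        _ = g := by rw [inv_sq_one u.2.1]; group] at this
    exact this ▸ inv_mem hg
  -- `|N(P)| = 6 |C(P)|`
  obtain ⟨⟨p₀, hp₀⟩, ho₀⟩ := exists_prime_orderOf_dvd_card' (G := P) 7 (by rw [hP.2])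
  rw [Subgroup.orderOf_mk] at ho₀
  have hp₀1 : p₀ ≠ 1 := fun h => by rw [h, orderOf_one] at ho₀; norm_num at ho₀
  let ρ := P.normalizerMonoidHom
  have hρ : ∀ (n : N) (p : P), ((ρ n p : P) : G) = n * p * (n : G)⁻¹ := fun n p => rfl
  have hker : ρ.ker = (Subgroup.centralizer (P : Set G)).subgroupOf N := by
    ext n
    rw [MonoidHom.mem_ker, Subgroup.mem_subgroupOf]
    constructor
    · intro h p hp
      have := hρ n ⟨p, hp⟩
      rw [h] at this
      exact mul_inv_eq_iff_eq_mul.1 this.symm |>.symm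
    · intro h
      refine MulEquiv.ext fun p => Subtype.ext ?_
      rw [hρ, MulAut.one_apply, mul_inv_eq_iff_eq_mul]
      exact (h p p.2).symm
  have hCN : Subgroup.centralizer (P : Set G) ≤ N := fun g hg => Subgroup.mem_normalizer_iff.2 fun q => by
    constructor
    · intro hq
      rwa [(hg q hq).symm, mul_inv_cancel_right]
    · intro hq
      have h1 := hg _ hq
      rw [inv_mul_cancel_right] at h1
      have h2 : g * q * g⁻¹ = q := mul_left_cancel h1.symm
      rwa [h2] at hq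
  have hrange : Nat.card ρ.range = 6 := by
    haveI : IsCyclic P := isCyclic_of_prime_card hP.2
    have h1 : Nat.card ρ.range ∣ 6 := by
      have := ρ.range.card_subgroup_dvd_card
      rwa [IsCyclic.card_mulAut, hP.2, Nat.totient_prime (by norm_num)] at this
    have h2 : 2 ∣ Nat.card ρ.range := by
      have hne : ρ ⟨u, huN⟩ ≠ 1 := fun h => by
        have := hρ ⟨u, huN⟩ ⟨p₀, hp₀⟩
        rw [h] at this
        have hinv : p₀ = p₀⁻¹ := this.trans (huP p₀ hp₀)
        have : orderOf p₀ ∣ 2 := orderOf_dvd_of_pow_eq_one (by rw [sq]; nth_rewrite 2 [hinv]; exact mul_inv_cancel p₀)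
        rw [ho₀] at this; norm_num at this
      haveI : Fact (Nat.Prime 2) := ⟨Nat.prime_two⟩
      have : orderOf (ρ ⟨u, huN⟩) = 2 := orderOf_eq_prime
        (by rw [← map_pow, show (⟨u, huN⟩ : N) ^ 2 = 1 from Subtype.ext (by simp [sq, inv_sq_one u.2.1]), map_one]) hne
      exact this ▸ Subgroup.orderOf_dvd_natCard _ ⟨_, rfl⟩
    have h3 : 3 ∣ Nat.card ρ.range := by
      have hne : ρ ⟨_, hx⟩ ≠ 1 := fun h => by
        have := hρ ⟨_, hx⟩ ⟨p₀, hp₀⟩
        rw [h] at this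
        exact hp₀1 (F.not_commute_x hP hp₀ (mul_inv_eq_iff_eq_mul.1 this.symm))
      haveI : Fact (Nat.Prime 3) := ⟨Nat.prime_three⟩
      have : orderOf (ρ ⟨_, hx⟩) = 3 := orderOf_eq_prime
        (by rw [← map_pow, show (⟨_, hx⟩ : N) ^ 3 = 1 from Subtype.ext (by
          show F.φ F.x ^ 3 = 1
          rw [← F.orderOf_phi_x, pow_orderOf_eq_one]), map_one]) hne
      exact this ▸ Subgroup.orderOf_dvd_natCard _ ⟨_, rfl⟩
    have h4 := Nat.le_of_dvd (by norm_num) h1
    have h5 := Nat.card_pos (α := ρ.range)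
    omega
  set cP := Nat.card (Subgroup.centralizer (P : Set G)) with hcP
  have hNcard : Nat.card N = 6 * cP := by
    rw [← ρ.ker.index_mul_card, Subgroup.index_ker, hrange, hker,
      Nat.card_congr (Subgroup.subgroupOfEquivOfLe hCN).toEquiv]
  -- the fixed points of `P`
  have horb : MulAction.orbit N F.o = F.Fix P := by
    ext y
    constructor
    · rintro ⟨n, rfl⟩ p hp
      have h := (Subgroup.mem_normalizer_iff.1 (inv_mem n.2) p).1 hp
      rw [inv_inv] at h
      show p • (n : G) • F.o = (n : G) • F.o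
      have h' := F.o_mem_Fix hP _ h
      rwa [mul_smul, mul_smul, inv_smul_eq_iff] at h'
    · intro hy
      obtain ⟨g, rfl⟩ := QuotientGroup.mk_surjective y
      have hgo : g • F.o = (g : G ⧸ F.H) := by
        show ((g * 1 : G) : G ⧸ F.H) = g
        rw [mul_one]
      have hle : ∀ p ∈ P, g⁻¹ * p * g ∈ F.H := fun p hp => F.smul_o_iff.1 (by
        rw [mul_smul, mul_smul, hgo, hy p hp, ← hgo, inv_smul_smul])
      let R := P.map (MulAut.conj g⁻¹).toMonoidHom
      have hR : F.IsSeven R := by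
        refine ⟨?_, by rw [Subgroup.card_map_of_injective (MulEquiv.injective _), hP.2]⟩
        rintro _ ⟨p, hp, rfl⟩
        show g⁻¹ * p * g⁻¹⁻¹ ∈ F.H
        rw [inv_inv]; exact hle p hp
      obtain ⟨h, hh, e⟩ := F.sevens.2.1 P R hP hR
      have hn : g * h ∈ N := Subgroup.mem_normalizer_iff.2 fun q => by
        have hm : ∀ x, x ∈ R ↔ g * x * g⁻¹ ∈ P := fun x => by
          constructor
          · rintro ⟨p, hp, rfl⟩
            show g * (g⁻¹ * p * g⁻¹⁻¹) * g⁻¹ ∈ P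
            rwa [show g * (g⁻¹ * p * g⁻¹⁻¹) * g⁻¹ = p by group]
          · intro hx'
            exact ⟨_, hx', show g⁻¹ * (g * x * g⁻¹) * g⁻¹⁻¹ = x by group⟩
        rw [show g * h * q * (g * h)⁻¹ = g * (h * q * h⁻¹) * g⁻¹ by group, ← hm]
        constructor
        · intro hq; exact e ▸ ⟨q, hq, rfl⟩
        · intro hq
          rw [← e] at hq
          obtain ⟨q', hq', eq'⟩ := hq
          change h * q' * h⁻¹ = h * q * h⁻¹ at eq'
          rwa [mul_left_cancel (mul_right_cancel eq')] at hq'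
      exact ⟨⟨g * h, hn⟩, show (g * h) • F.o = (g : G ⧸ F.H) by rw [mul_smul, F.smul_o_iff.2 hh, hgo]⟩
  have hfN : f * 21 = Nat.card N := by
    rw [← (MulAction.stabilizer N F.o).index_mul_card, MulAction.index_stabilizer, horb, ← hf]
    congr 1
    have : MulAction.stabilizer N F.o = (F.H ⊓ N).subgroupOf N := by
      ext n
      rw [MulAction.mem_stabilizer_iff, Subgroup.mem_subgroupOf, Subgroup.mem_inf]
      exact ⟨fun h => ⟨F.smul_o_iff.1 h, n.2⟩, fun h => F.smul_o_iff.2 h.1⟩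
    rw [this, Nat.card_congr (Subgroup.subgroupOfEquivOfLe inf_le_right).toEquiv, F.sevens.2.2 P hP]
  obtain ⟨k, hk⟩ : 7 ∣ cP := hP.2 ▸ Subgroup.card_dvd_of_le (fun p hp q hq => by
    obtain ⟨b, hb⟩ : IsCyclic P := isCyclic_of_prime_card hP.2
    obtain ⟨i, hi⟩ := Subgroup.mem_zpowers_iff.1 (hb ⟨p, hp⟩)
    obtain ⟨j, hj⟩ := Subgroup.mem_zpowers_iff.1 (hb ⟨q, hq⟩)
    exact congrArg Subtype.val (show (⟨q, hq⟩ : P) * ⟨p, hp⟩ = ⟨p, hp⟩ * ⟨q, hq⟩ by
      rw [← hi, ← hj, ← zpow_add, ← zpow_add, add_comm]))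
  have hcodd : Odd cP := by
    by_contra h
    rw [Nat.not_odd_iff_even] at h
    obtain ⟨t, htC, ht⟩ := exists_involution_mem h
    have := F.orderOf_dvd_of_commute ht (htC p₀ hp₀)
    rw [ho₀] at this; norm_num at this
  have hkodd : Odd k := (Nat.odd_mul.1 (hk ▸ hcodd)).2
  -- `n - 1 = 8 (f - 1)`
  let others := Finset.univ.filter fun y : G ⧸ F.H => y ≠ F.o
  haveI := Fintype.ofFinite {Q : Subgroup G // F.IsSeven Q}
  let Φ : G ⧸ F.H → {Q : Subgroup G // F.IsSeven Q} := fun y =>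
    if hy : y ≠ F.o then ⟨_, F.Q_seven hy⟩ else ⟨P, hP⟩
  have hfib : ∀ R : {Q : Subgroup G // F.IsSeven Q}, (others.filter fun y => Φ y = R).card = f - 1 := by
    rintro ⟨R, hR⟩
    obtain ⟨h, hh, e⟩ := F.sevens.2.1 P R hP hR
    have : ((others.filter fun y => Φ y = ⟨R, hR⟩ : Finset (G ⧸ F.H)) : Set (G ⧸ F.H)) =
        (fun y => h • y) '' (F.Fix P \ {F.o}) := by
      ext y
      simp only [others, Finset.coe_filter, Finset.mem_filter, Finset.mem_univ, true_and, Set.mem_setOf_eq,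
        Set.mem_image, Set.mem_diff, Set.mem_singleton_iff]
      constructor
      · rintro ⟨hy, hΦ⟩
        simp only [Φ, dif_pos hy, Subtype.mk.injEq] at hΦ
        refine ⟨h⁻¹ • y, ⟨fun p hp => ?_, fun he => hy ?_⟩, smul_inv_smul _ _⟩
        · have : h * p * h⁻¹ ∈ F.Q hy := by rw [hΦ, ← e]; exact ⟨p, hp, rfl⟩
          have h' := (F.mem_D.1 (F.Q_le hy this)).2
          rwa [mul_smul, mul_smul, ← eq_inv_smul_iff] at h'
        · rw [inv_smul_eq_iff] at he
          rw [he, F.smul_o_iff.2 hh]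
      · rintro ⟨z, ⟨hz, hzo⟩, rfl⟩
        have hy : h • z ≠ F.o := fun he => hzo (by
          rw [← inv_smul_smul h z, he, F.smul_o_iff.2 (inv_mem hh)])
        refine ⟨hy, ?_⟩
        simp only [Φ, dif_pos hy]
        refine Subtype.ext (F.Q_unique hy hR ?_).symm
        rw [← e]
        rintro _ ⟨p, hp, rfl⟩
        show h * p * h⁻¹ ∈ F.D (h • z)
        exact F.mem_D.2 ⟨F.smul_o_iff.2 (mul_mem (mul_mem hh (hP.1 hp)) (inv_mem hh)),
          by rw [mul_smul, mul_smul, inv_smul_smul, hz p hp]⟩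
    rw [← Set.ncard_coe_finset, this, Set.ncard_image_of_injective _ (MulAction.injective h),
      Set.ncard_diff_singleton_of_mem (F.o_mem_Fix hP)]
  have hn : Nat.card (G ⧸ F.H) - 1 = 8 * (f - 1) := by
    have h1 : others.card = Nat.card (G ⧸ F.H) - 1 := by
      rw [Nat.card_eq_fintype_card]
      simp only [others, Finset.filter_ne', Finset.card_erase_of_mem (Finset.mem_univ _), Finset.card_univ]
    rw [← h1, Finset.card_eq_sum_card_fiberwise (t := Finset.univ) (f := Φ) (fun y _ => Finset.mem_univ _),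
      Finset.sum_congr rfl (fun R _ => hfib R), Finset.sum_const, smul_eq_mul, Finset.card_univ,
      ← Nat.card_eq_fintype_card, F.sevens.1]
  set n := Nat.card (G ⧸ F.H) with hndef
  have hnpos : 0 < n := Nat.card_pos
  have hGcard : Nat.card G = 168 * n := by
    rw [Subgroup.card_eq_card_quotient_mul_card_subgroup F.H, F.card_H, mul_comm]
  have hf2 : f = 2 * k := by omega
  obtain ⟨k', rfl⟩ := hkodd
  -- `k = 1`
  have hk1 : k' = 0 := by
    have hNG := N.card_subgroup_dvd_card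
    rw [hNcard, hk, hGcard] at hNG
    obtain ⟨j, hj⟩ := hNG
    have hn' : n = 16 * (2 * k' + 1) - 7 := by omega
    have hdvd : (2 * k' + 1) ∣ 28 := by
      have h1 : (2 * k' + 1) * j + 28 = (2 * k' + 1) * 64 := by
        have : 168 * n = 42 * ((2 * k' + 1) * j) := by rw [hj]; ring
        omega
      exact (Nat.dvd_add_right ⟨j, rfl⟩).1 (h1 ▸ dvd_mul_right _ _)
    have hle := Nat.le_of_dvd (by norm_num) hdvd
    have h37 : k' = 0 ∨ k' = 3 := by
      have hk13 : k' ≤ 13 := by omega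
      interval_cases k' <;> omega
    refine h37.resolve_right fun h3 => ?_
    subst h3
    -- `C(P)` would be a Sylow 7-subgroup of order 49 normalized by a Sylow 2-subgroup
    set C := Subgroup.centralizer (P : Set G) with hCdef
    have hC49 : Nat.card C = 49 := by rw [← hcP, hk]; norm_num
    have hG : Nat.card G = 17640 := by rw [hGcard]; omega
    have hf7 : (Nat.card G).factorization 7 = 2 := by
      rw [hG]
      have h1 := ((by norm_num : Nat.Prime 7).pow_dvd_iff_le_factorization (k := 2) (n := 17640) (by norm_num)).1 (by norm_num)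
      have h2 := mt ((by norm_num : Nat.Prime 7).pow_dvd_iff_le_factorization (k := 3) (n := 17640) (by norm_num)).2 (by norm_num)
      omega
    let Q49 : Sylow 7 G := Sylow.ofCard C (by rw [hC49, hf7]; norm_num)
    have hQ49 : (Q49 : Set G) = (C : Set G) := rfl
    have hn7 := card_sylow_modEq_one 7 G
    rw [Nat.ModEq, Sylow.card_eq_index_normalizer Q49, hQ49] at hn7
    set M := Subgroup.normalizer (C : Set G) with hM
    have hle : N ≤ M := fun g hg => Subgroup.mem_normalizer_iff.2 fun c => by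
      have aux : ∀ g' ∈ N, ∀ c ∈ C, g' * c * g'⁻¹ ∈ C := fun g' hg' c hc p hp => by
        have hp' := (Subgroup.mem_normalizer_iff.1 (inv_mem hg') p).1 hp
        rw [inv_inv] at hp'
        calc p * (g' * c * g'⁻¹) = g' * ((g'⁻¹ * p * g') * c) * g'⁻¹ := by group
          _ = g' * (c * (g'⁻¹ * p * g')) * g'⁻¹ := by rw [hc _ hp']
          _ = _ := by group
      refine ⟨aux g hg c, fun hc => ?_⟩
      have := aux g⁻¹ (inv_mem hg) _ hc
      rwa [show g⁻¹ * (g * c * g⁻¹) * g⁻¹⁻¹ = c by group] at this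
    obtain ⟨j', hj'⟩ := Subgroup.card_dvd_of_le hle
    rw [hNcard, hk] at hj'
    have hidx := M.index_mul_card
    rw [hj', hG] at hidx
    have h8 : 8 ∣ Nat.card M := by
      have h60 : M.index * j' = 60 := by
        have : M.index * (6 * (7 * (2 * 3 + 1)) * j') = 294 * (M.index * j') := by ring
        omega
      have hm : M.index ≤ 60 := Nat.le_of_dvd (by norm_num) ⟨j', h60.symm⟩
      rw [hj']
      rcases (show M.index = 1 ∨ M.index = 15 by
        interval_cases h : M.index <;> omega) with h | h <;> rw [h] at h60 <;> omega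
    haveI : Fact (Nat.Prime 2) := ⟨Nat.prime_two⟩
    obtain ⟨R, hR⟩ := Sylow.exists_subgroup_card_pow_prime (G := M) 2 (n := 3) (by simpa using h8)
    let R' : Sylow 2 G := Sylow.ofCard (R.map M.subtype) (by
      rw [Subgroup.card_map_of_injective M.subtype_injective, hR, F.factorization_two])
    obtain ⟨g, hg⟩ := MulAction.exists_smul_eq G F.syl R'
    have hmem : ∀ s ∈ F.S, g * s * g⁻¹ ∈ M := fun s hs => by
      have : g * s * g⁻¹ ∈ (R' : Subgroup G) := by
        rw [← hg, Sylow.coe_subgroup_smul]; exact ⟨s, hs, rfl⟩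
      exact Subgroup.map_subtype_le _ this
    obtain ⟨b, hb, hb1, hbτ⟩ : ∃ k ∈ F.Sd, k ≠ 1 ∧ k ≠ F.τ := by
      by_contra h; push Not at h
      have : F.Sd ⊆ {1, F.τ} := fun k hk => by
        by_cases h1 : k = 1
        · simp [h1]
        · simp [h k hk h1]
      have := (Finset.card_le_card this).trans Finset.card_le_two
      rw [F.std.card] at this
      omega
    have hfree : ∀ s ∈ F.S, s ≠ 1 → ∀ m ∈ C, Commute (g * s * g⁻¹) m → m = 1 := by
      intro s hs hs1 m hm hcm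
      have h1 := F.orderOf_dvd_of_commute (t := g * s * g⁻¹) (by rw [orderOf_conj, F.orderOf_of_mem_S hs hs1]) hcm.symm
      have h2 := Subgroup.orderOf_dvd_natCard C hm
      rw [hC49] at h2
      exact orderOf_eq_one_iff.1 (Nat.eq_one_of_dvd_coprimes (by norm_num) h1 h2)
    have hbS : F.φ b ∈ F.S := ⟨b, hb, rfl⟩
    have hnc : ∀ s ∈ F.S, ∀ m ∈ C, g * s * g⁻¹ * m * (g * s * g⁻¹)⁻¹ ∈ C := fun s hs m hm =>
      (Subgroup.mem_normalizer_iff.1 (hmem s hs) m).1 hm
    have hbot := eq_bot_of_four C (a := g * F.J * g⁻¹) (b := g * F.φ b * g⁻¹)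
      (by rw [show g * F.J * g⁻¹ * (g * F.J * g⁻¹) = g * (F.J * F.J) * g⁻¹ by group, F.J_mul_self]; group)
      (by rw [show g * F.φ b * g⁻¹ * (g * F.φ b * g⁻¹) = g * (F.φ b * F.φ b) * g⁻¹ by group, F.sq_S hbS]; group)
      (by rw [show g * F.J * g⁻¹ * (g * F.φ b * g⁻¹) = g * (F.J * F.φ b) * g⁻¹ by group,
        F.comm_S F.J_mem_S hbS]; group)
      (hnc _ F.J_mem_S) (hnc _ hbS) (hfree _ F.J_mem_S (ne_one F.orderOf_J))
      (hfree _ hbS fun h => hb1 (F.inj (h.trans (map_one _).symm)))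
      (by
        rw [show g * F.J * g⁻¹ * (g * F.φ b * g⁻¹) = g * (F.J * F.φ b) * g⁻¹ by group]
        refine hfree _ (mul_mem F.J_mem_S hbS) fun h => hbτ (F.inj ?_)
        rw [F.hτ, ← inv_eq_of_mul_eq_one_right h, inv_eq F.orderOf_J])
    rw [hbot, Subgroup.card_bot] at hC49
    norm_num at hC49
  subst hk1
  refine ⟨⟨a, hao, ?_⟩, by omega⟩
  refine (Set.eq_of_subset_of_ncard_le (Set.insert_subset_iff.2 ⟨F.o_mem_Fix hP, Set.singleton_subset_iff.2
    fun p hp => (F.mem_D.1 (haP hp)).2⟩) ?_ (Set.toFinite _)).symm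
  rw [Set.ncard_pair (Ne.symm hao), ← hf]
  omega

end Four

end Cfsg.Agent.CentralTwoAlt
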