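import Cfsg.Agent.Lib.CentralTwoAlt.FourSub
import Cfsg.Agent.Lib.Involutions.ElementaryCentralizersPSL
import Cfsg.Agent.Lib.Classical.SmallIso
import Cfsg.Agent.Lib.Classical.Linear
import Cfsg.Agent.S0813

/-!
# The case `m = 4`: the group is the automorphism group of `PSL(2, 8)`
-/

set_option autoImplicit false
set_option linter.all false

namespace Cfsg.Agent.CentralTwoAlt

open Cfsg.Agent.Involutions.Basic

universe u v

/-- `Aut PSL(2, 8)` has order `1512`. -/
theorem card_mulAut_eight {L : Type u} [Field L] [Fintype L] (hL : Fintype.card L = 8) :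
    Nat.card (MulAut (Matrix.ProjectiveSpecialLinearGroup (Fin 2) L)) = 1512 := by
  haveI : Fact (Nat.Prime 2) := ⟨Nat.prime_two⟩
  rw [Cfsg.Agent.S0813.result 2 3 (by norm_num) (by rw [hL]; norm_num) 2 le_rfl (fun _ => by norm_num),
    if_pos rfl, Classical.Linear.natCard_PGL]
  have h := Classical.Linear.mul_natCard_SL_fin (F := L) (k := 2) (by norm_num)
  rw [hL, Fin.prod_univ_two] at h
  norm_num at h
  omega

namespace Four

variable {G : Type u} [Group G] [Finite G] {K : Type v} [Group K] [DecidableEq K] (F : Four G K)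

include F in
theorem iso_aut : ∃ (L : Type) (_ : Field L) (_ : Fintype L), Fintype.card L = 8 ∧
    Nonempty (G ≃* MulAut (Matrix.ProjectiveSpecialLinearGroup (Fin 2) L)) := by
  haveI : Fact (Nat.Prime 2) := ⟨Nat.prime_two⟩
  obtain ⟨M, hM, hG, hcard, hSM, hXM, hcent, U, hUM, hU2, hUH⟩ := F.subgroup_three
  have hf : (Nat.card M).factorization 2 = 3 := by
    rw [hcard]
    have h1 := (Nat.prime_two.pow_dvd_iff_le_factorization (k := 3) (n := 504) (by norm_num)).1 (by norm_num)
    have h2 := mt (Nat.prime_two.pow_dvd_iff_le_factorization (k := 4) (n := 504) (by norm_num)).2 (by norm_num)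
    omega
  let T : Sylow 2 M := Sylow.ofCard (F.S.subgroupOf M) (by
    rw [Nat.card_congr (Subgroup.subgroupOfEquivOfLe hSM).toEquiv, F.card_S, hf]; norm_num)
  have hT : ∀ t : M, t ∈ (T : Subgroup M) ↔ (t : G) ∈ F.S := fun t => Subgroup.mem_subgroupOf
  have hCM : ∀ g ∈ M, Commute g F.J → g ∈ F.S := by
    intro g hg hgc
    set A := Subgroup.centralizer ({F.J} : Set G) ⊓ M with hA
    have h8 : F.S ≤ A := le_inf F.S_le_centralizer hSM
    have h1 : Nat.card A ∣ 24 := by
      rw [← F.card24, ← F.card_centralizer]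
      exact Subgroup.card_dvd_of_le inf_le_left
    have h2 : 8 ∣ Nat.card A := F.card_S ▸ Subgroup.card_dvd_of_le h8
    have h3 : Nat.card A ≠ 24 := fun h => hXM (by
      have := Subgroup.eq_of_le_of_card_ge (inf_le_left : A ≤ _) (by rw [h, F.card_centralizer, F.card24])
      have hx : F.φ F.x ∈ A := by
        rw [hA, this]
        exact Subgroup.mem_centralizer_singleton_iff.2 (F.phi_comm _)
      exact hx.2)
    have h4 : Nat.card A = 8 := by
      have := Nat.le_of_dvd (by norm_num) h1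
      interval_cases h : Nat.card A <;> omega
    rw [Subgroup.eq_of_le_of_card_ge h8 (by rw [h4, F.card_S])]
    exact ⟨Subgroup.mem_centralizer_singleton_iff.2 hgc.eq, hg⟩
  have hHyp : Involutions.ElementaryCentralizers.Hyp T := by
    refine ⟨fun h => ?_, fun h => hUH ?_, fun t ht => ?_⟩
    · obtain ⟨g, hg⟩ := h.exists_generator
      have hle : orderOf g ≤ 2 := Nat.le_of_dvd (by norm_num) (orderOf_dvd_of_pow_eq_one (by
        rw [sq]
        exact Subtype.ext (Subtype.ext (F.sq_S ((hT g.1).1 g.2)))))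
      rw [orderOf_eq_card_of_forall_mem_zpowers hg, T.card_eq_multiplicity, hf] at hle
      norm_num at hle
    · refine Subgroup.mem_normalizer_iff.2 fun s => ?_
      have key : ∀ g ∈ M, ∀ s ∈ F.S, g * s * g⁻¹ ∈ F.S := fun g hg s hs =>
        (hT _).1 (h.conj_mem ⟨s, hSM hs⟩ ((hT _).2 hs) ⟨g, hg⟩)
      refine ⟨key U hUM s, fun hs => ?_⟩
      have := key U⁻¹ (inv_mem hUM) _ hs
      rwa [show U⁻¹ * (U * s * U⁻¹) * U⁻¹⁻¹ = s by group] at this
    · have ht' : orderOf (t : G) = 2 := by rw [Subgroup.orderOf_coe, ht]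
      obtain ⟨n, hn⟩ := F.exists_conj_J ht'
      have hin : ∀ c ∈ Subgroup.centralizer ({t} : Set M), n⁻¹ * (c : G) * n ∈ F.S := by
        intro c hc
        refine hCM _ (by simpa using hM.conj_mem _ c.2 n⁻¹) ?_
        have h' : (c : G) * t = t * c := congrArg Subtype.val (Subgroup.mem_centralizer_singleton_iff.1 hc)
        rw [← hn] at h'
        show n⁻¹ * (c : G) * n * F.J = F.J * (n⁻¹ * c * n)
        calc n⁻¹ * (c : G) * n * F.J = n⁻¹ * (c * (n * F.J * n⁻¹)) * n := by group
          _ = n⁻¹ * (n * F.J * n⁻¹ * c) * n := by rw [h']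
          _ = _ := by group
      refine ⟨⟨⟨fun a b => Subtype.ext (Subtype.ext ?_)⟩⟩, fun c hc => Subtype.ext ?_⟩
      · show ((a.1 : M) : G) * (b.1 : M) = (b.1 : M) * (a.1 : M)
        have := F.comm_S (hin a.1 a.2) (hin b.1 b.2)
        calc ((a.1 : M) : G) * (b.1 : M) = n * ((n⁻¹ * a.1 * n) * (n⁻¹ * b.1 * n)) * n⁻¹ := by group
          _ = n * ((n⁻¹ * b.1 * n) * (n⁻¹ * a.1 * n)) * n⁻¹ := by rw [this]
          _ = _ := by group
      · show ((c ^ 2 : M) : G) = 1
        rw [sq, Subgroup.coe_mul]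
        calc (c : G) * c = n * ((n⁻¹ * c * n) * (n⁻¹ * c * n)) * n⁻¹ := by group
          _ = 1 := by rw [F.sq_S (hin c hc)]; group
  obtain ⟨L, iL, iLf, hL, -, ⟨e⟩⟩ := hHyp.exists_pslTwo
  rw [T.card_eq_multiplicity, hf] at hL
  haveI : Fintype (GaloisField 2 3) := Fintype.ofFinite _
  have hGF : Fintype.card (GaloisField 2 3) = 8 := by
    rw [← Nat.card_eq_fintype_card, GaloisField.card 2 3 (by norm_num)]; norm_num
  refine ⟨GaloisField 2 3, inferInstance, inferInstance, hGF, ?_⟩
  let e' : M ≃* Matrix.ProjectiveSpecialLinearGroup (Fin 2) (GaloisField 2 3) :=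
    e.trans (Classical.SmallIso.pslCongr (FiniteField.ringEquivOfCardEq (by rw [hL, hGF]; norm_num)))
  haveI := hM
  let f : G →* MulAut (Matrix.ProjectiveSpecialLinearGroup (Fin 2) (GaloisField 2 3)) :=
    (MulAut.congr e').toMonoidHom.comp MulAut.conjNormal
  have hinj : Function.Injective f := by
    refine (MulAut.congr e').injective.comp ?_
    rw [← MonoidHom.ker_eq_bot_iff, Subgroup.eq_bot_iff_forall]
    intro g hg
    refine hcent g fun m hm => ?_
    have := congrArg Subtype.val (DFunLike.congr_fun hg (⟨m, hm⟩ : M))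
    rw [MulAut.conjNormal_apply] at this
    exact mul_inv_eq_iff_eq_mul.1 this
  exact ⟨MulEquiv.ofBijective f ((Nat.bijective_iff_injective_and_card f).2
    ⟨hinj, by rw [hG, card_mulAut_eight hGF]⟩)⟩

end Four

end Cfsg.Agent.CentralTwoAlt
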