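import Cfsg.Agent.Lib.CentralTwoAlt.FourCount

/-!
# The case `m = 4`: a normal subgroup of index three

With `u` an involution inverting `P` and commuting with `x`, the fixed points of `x` give `uJu = JuJ`, so
`B ∪ BuB` is a subgroup for `B = SP`.
-/

set_option autoImplicit false
set_option linter.all false

namespace Cfsg.Agent.CentralTwoAlt

open Cfsg.Agent.Involutions.Basic Cfsg.Agent.Involutions.StronglyEmbedded MulAction
open scoped Pointwise

universe u v

namespace Four

variable {G : Type u} [Group G] [Finite G] {K : Type v} [Group K] [DecidableEq K] (F : Four G K)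

theorem subgroup_three :
    ∃ M : Subgroup G, M.Normal ∧ Nat.card G = 1512 ∧ Nat.card M = 504 ∧ F.S ≤ M ∧ F.φ F.x ∉ M ∧
      (∀ g, (∀ m ∈ M, g * m = m * g) → g = 1) ∧ ∃ u ∈ M, orderOf u = 2 ∧ u ∉ F.H := by
  classical
  haveI : Fact (Nat.Prime 3) := ⟨Nat.prime_three⟩
  obtain ⟨P, hP, hx, ⟨a, hao, hfix⟩, hnine⟩ := F.nine
  set X := F.φ F.x with hX
  have hXo : X • F.o = F.o := F.smul_o_iff.2 (F.phi_mem_H _)
  have haP : P ≤ F.D a := fun p hp => F.mem_D.2 ⟨F.smul_o_iff.2 (hP.1 hp),
    (hfix.symm ▸ Set.mem_insert_of_mem _ rfl : a ∈ F.Fix P) p hp⟩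
  have hQa : P = F.Q hao := F.Q_unique hao hP haP
  -- `x` fixes `a`
  have hXa : X • a = a := by
    have hmem : X • a ∈ F.Fix P := fun p hp => by
      have h := (Subgroup.mem_normalizer_iff.1 (inv_mem hx) p).1 hp
      rw [inv_inv] at h
      have h' := (F.mem_D.1 (haP h)).2
      rwa [mul_smul, mul_smul, inv_smul_eq_iff] at h'
    rw [hfix] at hmem
    rcases hmem with h | h
    · exact absurd (MulAction.injective X (h.trans hXo.symm)) hao
    · exact h
  have hconjP : ∀ g ∈ Subgroup.normalizer (P : Set G), ∀ p ∈ P, g * p * g⁻¹ ∈ P := fun g hg p hp =>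
    (Subgroup.mem_normalizer_iff.1 hg p).1 hp
  have hXP := hconjP X hx
  obtain ⟨u₁⟩ : Nonempty (F.Sw a) := (Nat.card_pos_iff.1 (by rw [F.card_Sw hao]; norm_num)).1
  have hinvP : ∀ i : F.Sw a, ∀ p ∈ P, (i : G) * p * (i : G)⁻¹ = p⁻¹ := fun i p hp =>
    F.swap_inverts hao i (hQa ▸ hp)
  have hsurjP : ∀ j : F.Sw a, (u₁ : G) * j ∈ P := by
    intro j
    have hbij : Function.Bijective (fun p : P => (⟨(u₁ : G) * p, ?_, ?_⟩ : F.Sw a)) :=
      (Nat.bijective_iff_injective_and_card _).2 ⟨fun p q h => Subtype.ext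
        (mul_left_cancel (congrArg Subtype.val h)), by rw [F.card_Sw hao, hP.2]⟩
    · obtain ⟨p, hp⟩ := hbij.2 j
      have : (u₁ : G) * (p : G) = j := congrArg Subtype.val hp
      rw [← this, ← mul_assoc, inv_sq_one u₁.2.1, one_mul]
      exact p.2
    · refine orderOf_two_iff.2 ⟨?_, fun h => hao ?_⟩
      · have := hinvP u₁ p p.2
        rw [inv_eq u₁.2.1] at this
        rw [show (u₁ : G) * p * (u₁ * p) = ((u₁ : G) * p * u₁) * p by group, this, inv_mul_cancel]
      · have h' := congrArg (· • F.o) h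
        simpa only [mul_smul, F.smul_o_iff.2 (hP.1 p.2), u₁.2.2, one_smul] using h'
    · rw [mul_smul, F.smul_o_iff.2 (hP.1 p.2), u₁.2.2]
  -- an involution interchanging `o` and `a` and commuting with `x`
  obtain ⟨u, hux⟩ : ∃ u : F.Sw a, X * u = (u : G) * X := by
    let j : F.Sw a := ⟨X * u₁ * X⁻¹, by rw [orderOf_conj, u₁.2.1], by
      rw [mul_smul, mul_smul, inv_smul_eq_iff.2 hXo.symm, u₁.2.2, hXa]⟩
    have hq : (u₁ : G) * j ∈ P := hsurjP j
    let f : P → P := fun p => ⟨(p : G) * (X * p * X⁻¹)⁻¹, mul_mem p.2 (inv_mem (hXP p p.2))⟩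
    have hf : Function.Injective f := by
      intro p q h
      have h' : (p : G) * (X * p * X⁻¹)⁻¹ = q * (X * q * X⁻¹)⁻¹ := congrArg Subtype.val h
      have hc : (q : G)⁻¹ * p = X * ((q : G)⁻¹ * p) * X⁻¹ := by
        revert h'
        generalize (p : G) = p
        generalize (q : G) = q
        intro h'
        calc q⁻¹ * p = q⁻¹ * (p * (X * p * X⁻¹)⁻¹) * (X * p * X⁻¹) := by group
          _ = q⁻¹ * (q * (X * q * X⁻¹)⁻¹) * (X * p * X⁻¹) := by rw [h']
          _ = _ := by group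
      exact Subtype.ext (inv_mul_eq_one.1 (F.not_commute_x hP (mul_mem (inv_mem q.2) p.2)
        (mul_inv_eq_iff_eq_mul.1 hc.symm))).symm
    obtain ⟨p, hp⟩ := Finite.surjective_of_injective hf ⟨_, hq⟩
    have hp' : (p : G) * (X * p * X⁻¹)⁻¹ = (u₁ : G) * (X * u₁ * X⁻¹) := congrArg Subtype.val hp
    refine ⟨⟨(u₁ : G) * p, ?_, by rw [mul_smul, F.smul_o_iff.2 (hP.1 p.2), u₁.2.2]⟩, ?_⟩
    · refine orderOf_two_iff.2 ⟨?_, fun h => hao ?_⟩
      · have := hinvP u₁ p p.2
        rw [inv_eq u₁.2.1] at this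
        rw [show (u₁ : G) * p * (u₁ * p) = ((u₁ : G) * p * u₁) * p by group, this, inv_mul_cancel]
      · have h' := congrArg (· • F.o) h
        simpa only [mul_smul, F.smul_o_iff.2 (hP.1 p.2), u₁.2.2, one_smul] using h'
    · show X * ((u₁ : G) * p) = (u₁ : G) * p * X
      have h2 : (u₁ : G) * p = X * u₁ * X⁻¹ * (X * p * X⁻¹) := by
        revert hp'
        generalize (p : G) = p
        intro hp'
        calc (u₁ : G) * p = (u₁ : G) * (p * (X * p * X⁻¹)⁻¹) * (X * p * X⁻¹) := by group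
          _ = (u₁ : G) * ((u₁ : G) * (X * u₁ * X⁻¹)) * (X * p * X⁻¹) := by rw [hp']
          _ = ((u₁ : G) * u₁) * (X * u₁ * X⁻¹ * (X * p * X⁻¹)) := by group
          _ = _ := by rw [inv_sq_one u₁.2.1, one_mul]
      conv_rhs => rw [h2]
      group
  obtain ⟨U, hU2, hUo⟩ := u
  have hUU : U * U = 1 := inv_sq_one hU2
  have hUa : U • a = F.o := F.swap_back ⟨U, hU2, hUo⟩
  have hUP : ∀ p ∈ P, U * p * U = p⁻¹ := fun p hp => by
    have := hinvP ⟨U, hU2, hUo⟩ p hp
    rwa [inv_eq hU2] at this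
  have hUH : U ∉ F.H := fun h => hao (hUo ▸ F.smul_o_iff.2 h)
  -- the Sylow 2-subgroup is regular on the other eight cosets
  have hfree : ∀ s ∈ F.S, s • a = a → s = 1 := fun s hs hsa => by
    by_contra h1
    exact F.no_involution_D hao (F.orderOf_of_mem_S hs h1) (F.mem_D.2 ⟨F.smul_o_iff.2 (F.S_le_H hs), hsa⟩)
  have hreg : ∀ y, y ≠ F.o → ∃ s ∈ F.S, s • a = y := by
    intro y hy
    have hne : ∀ s : F.S, (s : G) • a ≠ F.o := fun s h => hao (by
      rw [← inv_smul_smul (s : G) a, h, F.smul_o_iff.2 (inv_mem (F.S_le_H s.2))])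
    have hbij : Function.Bijective (fun s : F.S => (⟨(s : G) • a, hne s⟩ : {y : G ⧸ F.H // y ≠ F.o})) := by
      refine (Nat.bijective_iff_injective_and_card _).2 ⟨fun s t h => ?_, ?_⟩
      · have h' : (s : G) • a = (t : G) • a := congrArg Subtype.val h
        exact Subtype.ext (inv_mul_eq_one.1 (hfree _ (mul_mem (inv_mem t.2) s.2) (by
          rw [mul_smul, h', inv_smul_smul]))).symm
      · haveI := Fintype.ofFinite (G ⧸ F.H)
        rw [F.card_S, Nat.card_eq_fintype_card, Fintype.card_subtype_compl, Fintype.card_subtype_eq,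
          ← Nat.card_eq_fintype_card, hnine]
    obtain ⟨s, hs⟩ := hbij.2 ⟨y, hy⟩
    exact ⟨s, s.2, congrArg Subtype.val hs⟩
  -- `uJu = JuJ`
  set b := F.J • a with hb
  have hbo : b ≠ F.o := fun h => hao (by
    rw [← inv_smul_smul F.J a, ← hb, h, F.smul_o_iff.2 (inv_mem (F.S_le_H F.J_mem_S))])
  have hba : b ≠ a := fun h => ne_one F.orderOf_J (hfree _ F.J_mem_S h)
  have hXJ : X * F.J = F.J * X := F.phi_comm _
  have hXb : X • b = b := by rw [hb, ← mul_smul, hXJ, mul_smul, hXa]
  have hUb : U • b = b := by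
    have hfixU : X • (U • b) = U • b := by
      rw [← mul_smul, show X * U = U * X from hux, mul_smul, hXb]
    have hne : U • b ≠ F.o := fun h => hba (MulAction.injective U (h.trans hUa.symm))
    obtain ⟨s, ⟨k, hk, rfl⟩, hs⟩ := hreg _ hne
    have hks : F.φ (F.x * k * F.x⁻¹) • a = F.φ k • a := by
      rw [map_mul, map_mul, map_inv, mul_smul, mul_smul, inv_smul_eq_iff.2 hXa.symm, hs, ← hX, hfixU]
    have heq : F.x * k * F.x⁻¹ = k := F.inj (inv_mul_eq_one.1 (hfree _
      (mul_mem (inv_mem ⟨k, hk, rfl⟩) ⟨_, F.std.xconj k hk, rfl⟩) (by rw [mul_smul, hks, inv_smul_smul]))).symm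
    rcases F.std.fix k hk heq with rfl | rfl
    · rw [map_one, one_smul] at hs
      exfalso
      refine hbo (MulAction.injective U ?_)
      show U • b = U • F.o
      rw [← hs, hUo]
    · rw [← hs, F.hτ]
  have hJJ := F.J_mul_self
  have hJo : F.J • F.o = F.o := F.smul_o_iff.2 (F.S_le_H F.J_mem_S)
  have hJb : F.J • b = a := by rw [hb, ← mul_smul, hJJ, one_smul]
  have hUJU : U * F.J * U = F.J * U * F.J := by
    set a1 := F.J * U * F.J with ha1
    set a2 := U * F.J * U with ha2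
    have h1 : a1 • F.o = b ∧ a1 • b = F.o := by
      rw [ha1, mul_smul, mul_smul, hJo, hUo, mul_smul, mul_smul, hJb, hUa, hJo]; exact ⟨rfl, rfl⟩
    have h2 : a2 • F.o = b ∧ a2 • b = F.o := by
      rw [ha2, mul_smul, mul_smul, hUo, ← hb, hUb, mul_smul, mul_smul, hUb, hJb, hUa]; exact ⟨rfl, rfl⟩
    have hgD : a1 * a2 ∈ F.D b := F.mem_D.2
      ⟨by rw [mul_smul, h2.1, h1.2], by rw [mul_smul, h2.2, h1.1]⟩
    have hs1 : a1 * a1 = 1 := by
      rw [ha1, show F.J * U * F.J * (F.J * U * F.J) = F.J * U * (F.J * F.J) * U * F.J by group, hJJ, mul_one,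
        mul_assoc F.J U U, hUU, mul_one, hJJ]
    have hs2 : a2 * a2 = 1 := by
      rw [ha2, show U * F.J * U * (U * F.J * U) = U * F.J * (U * U) * F.J * U by group, hUU, mul_one,
        mul_assoc U F.J F.J, hJJ, mul_one, hUU]
    have hx1 : Commute X a1 := ((Commute.mul_right hXJ hux).mul_right hXJ)
    have hx2 : Commute X a2 := ((Commute.mul_right (show Commute X U from hux) hXJ).mul_right hux)
    -- `a1 * a2` commutes with `x` and lies in a group of odd order fixing two points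
    set g := a1 * a2 with hg
    have hodd : Odd (orderOf g) := (F.odd_D hbo).of_dvd_nat (Subgroup.orderOf_dvd_natCard _ hgD)
    have hgx : Commute X g := hx1.mul_right hx2
    have hgS : ∃ i : ℕ, i < 3 ∧ g = X ^ i := by
      -- the odd part of the centralizer of `x` in `H`
      obtain ⟨hgH, -⟩ : g ∈ F.H ∧ g ∈ stabilizer G b := hgD
      obtain ⟨k, hk, e⟩ := F.S_conj hgH F.J_mem_S
      have hfix : F.x * k * F.x⁻¹ = k := F.inj (by
        rw [map_mul, map_mul, map_inv, e, ← hX]
        calc X * (g * F.J * g⁻¹) * X⁻¹ = (X * g) * F.J * (X * g)⁻¹ := by group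
          _ = (g * X) * F.J * (g * X)⁻¹ := by rw [hgx.eq]
          _ = g * (X * F.J) * X⁻¹ * g⁻¹ := by group
          _ = _ := by rw [hXJ]; group)
      have hgJ : g * F.J = F.J * g := by
        rcases F.std.fix k hk hfix with rfl | rfl
        · rw [map_one, eq_comm, conj_eq_one_iff] at e
          exact absurd e (ne_one F.orderOf_J)
        · rw [F.hτ, eq_comm, mul_inv_eq_iff_eq_mul] at e
          exact e
      obtain ⟨c, hc⟩ := F.exists_model hgJ
      have hdiv : orderOf g ∣ 3 := by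
        have h24 : orderOf g ∣ 2 ^ 3 * 3 := F.orderOf_dvd_of_commute F.orderOf_J hgJ
        exact ((Nat.coprime_two_right.2 hodd).pow_right 3).dvd_of_dvd_mul_left h24
      -- an element of order three of the centralizer commuting with `x`
      by_contra hne
      push Not at hne
      haveI : Fact (Nat.Prime 3) := ⟨Nat.prime_three⟩
      let W : Subgroup G := Subgroup.zpowers X ⊔ Subgroup.zpowers g
      have hnot : g ∉ Subgroup.zpowers X := fun h => by
        obtain ⟨i, hi, e⟩ := (mem_zpowers_iff_mem_range_orderOf.1 h) |> Finset.mem_image.1 |> fun ⟨i, hi, e⟩ =>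
          (⟨i, Finset.mem_range.1 hi, e⟩ : ∃ i, i < orderOf X ∧ X ^ i = g)
        rw [hX, F.orderOf_phi_x] at hi
        exact hne i hi e.symm
      have hWC : W ≤ Subgroup.centralizer ({F.J} : Set G) := sup_le
        (Subgroup.zpowers_le.2 (Subgroup.mem_centralizer_singleton_iff.2 hXJ))
        (Subgroup.zpowers_le.2 (Subgroup.mem_centralizer_singleton_iff.2 hgJ))
      let ψ : Subgroup.zpowers X × Subgroup.zpowers g →* G :=
        (Subgroup.zpowers X).subtype.noncommCoprod (Subgroup.zpowers g).subtype fun p q => by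
          obtain ⟨i, hi⟩ := Subgroup.mem_zpowers_iff.1 p.2
          obtain ⟨j, hj⟩ := Subgroup.mem_zpowers_iff.1 q.2
          show Commute (p : G) q
          rw [← hi, ← hj]
          exact (hgx.zpow_left i).zpow_right j
      have hψ : Function.Injective ψ := by
        rw [← MonoidHom.ker_eq_bot_iff, Subgroup.eq_bot_iff_forall]
        rintro ⟨p, q⟩ h
        have h' : (p : G) * q = 1 := h
        have hq : (q : G) ∈ Subgroup.zpowers X := by
          rw [← inv_eq_of_mul_eq_one_right h']; exact inv_mem p.2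
        have hq1 : (q : G) = 1 := by
          by_contra hq1
          have h3 : orderOf g = 3 := ((Nat.dvd_prime Nat.prime_three).1 hdiv).resolve_left fun h => hnot (by
            rw [orderOf_eq_one_iff.1 h]; exact one_mem _)
          have hle : Subgroup.zpowers (q : G) ≤ Subgroup.zpowers g := Subgroup.zpowers_le.2 q.2
          have hq3 : orderOf (q : G) = 3 := ((Nat.dvd_prime Nat.prime_three).1
            (h3 ▸ orderOf_dvd_of_mem_zpowers q.2)).resolve_left fun h => hq1 (orderOf_eq_one_iff.1 h)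
          have := Subgroup.eq_of_le_of_card_ge hle (by rw [Nat.card_zpowers, Nat.card_zpowers, hq3, h3])
          exact hnot (Subgroup.zpowers_le.2 hq (by rw [this]; exact Subgroup.mem_zpowers g))
        rw [hq1, mul_one] at h'
        exact Prod.ext (Subtype.ext h') (Subtype.ext hq1)
      have hd := Subgroup.card_dvd_of_le (show ψ.range ≤ Subgroup.centralizer ({F.J} : Set G) from by
        rintro _ ⟨⟨p, q⟩, rfl⟩
        exact hWC (mul_mem (le_sup_left (a := Subgroup.zpowers X) p.2) (le_sup_right (b := Subgroup.zpowers g) q.2)))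
      rw [← Nat.card_congr (MonoidHom.ofInjective hψ).toEquiv, Nat.card_prod, Nat.card_zpowers, Nat.card_zpowers,
        hX, F.orderOf_phi_x, F.card_centralizer, F.card24] at hd
      rcases (Nat.dvd_prime Nat.prime_three).1 hdiv with h | h
      · exact hnot (by rw [orderOf_eq_one_iff.1 h]; exact one_mem _)
      · rw [h] at hd; norm_num at hd
    obtain ⟨i, hi, hgi⟩ := hgS
    have hinv : a1 * g * a1 = g⁻¹ := by
      rw [hg, ← mul_assoc a1 a1, hs1, one_mul]
      exact (inv_eq_of_mul_eq_one_right (by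
        rw [show a1 * a2 * (a2 * a1) = a1 * (a2 * a2) * a1 by group, hs2, mul_one, hs1])).symm
    have hsq : g * g = 1 := by
      have hc : a1 * g = g * a1 := by rw [hgi]; exact ((hx1.pow_left i).eq).symm
      rw [hc, mul_assoc, hs1, mul_one] at hinv
      nth_rewrite 2 [hinv]
      exact mul_inv_cancel g
    have hg1 := Involutions.ElementaryCentralizers.odd_ne_one hodd hsq
    exact (eq_inv_of_mul_eq_one_left hg1).trans (inv_eq_of_mul_eq_one_right hs2) |>.symm
  -- the subgroup `B`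
  set B := P ⊔ F.S with hB
  have hPS : P ≤ Subgroup.normalizer (F.S : Set G) := hP.1
  have hBmem : ∀ g ∈ B, ∃ p ∈ P, ∃ s ∈ F.S, g = p * s := fun g hg => by
    have : g ∈ (P : Set G) * (F.S : Set G) := by
      rw [← Subgroup.coe_mul_of_left_le_normalizer_right P F.S hPS]; exact hg
    obtain ⟨p, hp, s, hs, rfl⟩ := Set.mem_mul.1 this
    exact ⟨p, hp, s, hs, rfl⟩
  have hPB : P ≤ B := le_sup_left
  have hSB : F.S ≤ B := le_sup_right
  have hBH : B ≤ F.H := sup_le hP.1 F.S_le_H
  have htrP : ∀ s ∈ F.S, s ≠ 1 → ∃ p ∈ P, p * F.J * p⁻¹ = s := by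
    intro s hs hs1
    have hne : ∀ p : P, (p : G) * F.J * (p : G)⁻¹ ∈ F.S ∧ (p : G) * F.J * (p : G)⁻¹ ≠ 1 := fun p =>
      ⟨F.S_conj (hP.1 p.2) F.J_mem_S, fun h => ne_one F.orderOf_J (conj_eq_one_iff.1 h)⟩
    have hbij : Function.Bijective (fun p : P =>
        (⟨⟨_, (hne p).1⟩, fun h => (hne p).2 (congrArg Subtype.val h)⟩ : {s : F.S // s ≠ 1})) := by
      refine (Nat.bijective_iff_injective_and_card _).2 ⟨fun p q h => ?_, ?_⟩
      · have h' : (p : G) * F.J * (p : G)⁻¹ = q * F.J * (q : G)⁻¹ :=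
          congrArg (fun t : {s : F.S // s ≠ 1} => ((t : F.S) : G)) h
        refine Subtype.ext (inv_mul_eq_one.1 (F.not_commute_J hP (mul_mem (inv_mem q.2) p.2) ?_)).symm
        revert h'
        generalize (p : G) = p
        generalize (q : G) = q
        intro h'
        show q⁻¹ * p * F.J = F.J * (q⁻¹ * p)
        calc q⁻¹ * p * F.J = q⁻¹ * (p * F.J * p⁻¹) * p := by group
          _ = q⁻¹ * (q * F.J * q⁻¹) * p := by rw [h']
          _ = _ := by group
      · haveI := Fintype.ofFinite F.S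
        rw [hP.2, Nat.card_eq_fintype_card, Fintype.card_subtype_compl, Fintype.card_subtype_eq,
          ← Nat.card_eq_fintype_card, F.card_S]
    obtain ⟨p, hp⟩ := hbij.2 ⟨⟨s, hs⟩, fun h => hs1 (congrArg Subtype.val h)⟩
    exact ⟨p, p.2, congrArg (fun t : {s : F.S // s ≠ 1} => ((t : F.S) : G)) hp⟩
  let T : G → Prop := fun g => g ∈ B ∨ ∃ c ∈ B, ∃ d ∈ B, g = c * U * d
  have hUBU : ∀ c ∈ B, T (U * c * U) := by
    intro c hc
    obtain ⟨p, hp, s, hs, rfl⟩ := hBmem c hc
    have hpU : U * p = p⁻¹ * U := by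
      rw [← hUP p hp, mul_assoc _ U U, hUU, mul_one]
    by_cases hs1 : s = 1
    · subst hs1
      rw [mul_one, hUP p hp]
      exact Or.inl (inv_mem (hPB hp))
    obtain ⟨q, hq, rfl⟩ := htrP s hs hs1
    have hqU : U * q = q⁻¹ * U := by
      rw [← hUP q hq, mul_assoc _ U U, hUU, mul_one]
    have hqU' : q⁻¹ * U = U * q := hqU.symm
    refine Or.inr ⟨p⁻¹ * q⁻¹ * F.J, mul_mem (mul_mem (inv_mem (hPB hp)) (inv_mem (hPB hq))) (hSB F.J_mem_S),
      F.J * q, mul_mem (hSB F.J_mem_S) (hPB hq), ?_⟩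
    calc U * (p * (q * F.J * q⁻¹)) * U = (U * p) * q * F.J * (q⁻¹ * U) := by group
      _ = (p⁻¹ * U) * q * F.J * (U * q) := by rw [hpU, hqU']
      _ = p⁻¹ * (U * q) * F.J * U * q := by group
      _ = p⁻¹ * (q⁻¹ * U) * F.J * U * q := by rw [hqU]
      _ = p⁻¹ * q⁻¹ * (U * F.J * U) * q := by group
      _ = p⁻¹ * q⁻¹ * (F.J * U * F.J) * q := by rw [hUJU]
      _ = _ := by group
  let M : Subgroup G :=
    { carrier := {g | T g}
      one_mem' := Or.inl (one_mem _)
      mul_mem' := by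
        intro g h hg hh
        rcases hg with hg | ⟨c, hc, d, hd, rfl⟩ <;> rcases hh with hh | ⟨c', hc', d', hd', rfl⟩
        · exact Or.inl (mul_mem hg hh)
        · exact Or.inr ⟨g * c', mul_mem hg hc', d', hd', by group⟩
        · exact Or.inr ⟨c, hc, d * h, mul_mem hd hh, by group⟩
        · rcases hUBU (d * c') (mul_mem hd hc') with h1 | ⟨e, he, f, hf, h1⟩
          · refine Or.inl ?_
            rw [show c * U * d * (c' * U * d') = c * (U * (d * c') * U) * d' by group]
            exact mul_mem (mul_mem hc h1) hd'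
          · refine Or.inr ⟨c * e, mul_mem hc he, f * d', mul_mem hf hd', ?_⟩
            rw [show c * U * d * (c' * U * d') = c * (U * (d * c') * U) * d' by group, h1]
            group
      inv_mem' := by
        intro g hg
        rcases hg with hg | ⟨c, hc, d, hd, rfl⟩
        · exact Or.inl (inv_mem hg)
        · exact Or.inr ⟨d⁻¹, inv_mem hd, c⁻¹, inv_mem hc,
            by rw [mul_inv_rev, mul_inv_rev, inv_eq hU2]; group⟩ }
  have hMU : U ∈ M := Or.inr ⟨1, one_mem _, 1, one_mem _, by group⟩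
  have hBM : B ≤ M := fun g hg => Or.inl hg
  -- `x` is outside `M`
  have hXM : X ∉ M := by
    rintro (h | ⟨c, hc, d, hd, e⟩)
    · obtain ⟨p, hp, s, hs, e⟩ := hBmem X h
      have hsq : ∀ q ∈ P, F.φ F.x * q * (F.φ F.x)⁻¹ = q → q = 1 := fun q hq hq' =>
        F.not_commute_x hP hq (mul_inv_eq_iff_eq_mul.1 hq')
      have hsa : s • a = a := by
        have h1 : (p * s) • a = a := e ▸ hXa
        rw [mul_smul] at h1
        rw [← inv_smul_smul p (s • a), h1, inv_smul_eq_iff.2 (F.mem_D.1 (haP hp)).2.symm]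
      rw [hfree s hs hsa, mul_one] at e
      have := F.orderOf_seven hP (e ▸ hp) (fun h => by
        have h3 := F.orderOf_phi_x
        rw [← hX, h, orderOf_one] at h3
        norm_num at h3)
      rw [hX, F.orderOf_phi_x] at this
      norm_num at this
    · apply hao
      have h1 := hXo
      rw [e, mul_smul, mul_smul, F.smul_o_iff.2 (hBH hd), hUo] at h1
      rw [← inv_smul_smul c a, h1, F.smul_o_iff.2 (inv_mem (hBH hc))]
  -- `x` normalizes `M`
  have hXB : ∀ c ∈ B, X * c * X⁻¹ ∈ B := fun c hc => by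
    obtain ⟨p, hp, s, hs, rfl⟩ := hBmem c hc
    rw [show X * (p * s) * X⁻¹ = (X * p * X⁻¹) * (X * s * X⁻¹) by group]
    exact mul_mem (hPB (hXP p hp)) (hSB (F.S_conj (F.phi_mem_H _) hs))
  have hXMle : ∀ g ∈ M, X * g * X⁻¹ ∈ M := by
    rintro g (hg | ⟨c, hc, d, hd, rfl⟩)
    · exact Or.inl (hXB g hg)
    · refine Or.inr ⟨_, hXB c hc, _, hXB d hd, ?_⟩
      calc X * (c * U * d) * X⁻¹ = (X * c * X⁻¹) * (X * U) * X⁻¹ * (X * d * X⁻¹) := by group
        _ = (X * c * X⁻¹) * (U * X) * X⁻¹ * (X * d * X⁻¹) := by rw [show X * U = U * X from hux]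
        _ = _ := by group
  have hXnorm : X ∈ Subgroup.normalizer (M : Set G) := by
    refine Subgroup.mem_normalizer_iff.2 fun g => ⟨hXMle g, fun hg => ?_⟩
    have h3 : X * X * X = 1 := by rw [hX, ← map_mul, ← map_mul, F.std.hx.1, map_one]
    have := hXMle _ (hXMle _ hg)
    rwa [show X * (X * (X * g * X⁻¹) * X⁻¹) * X⁻¹ = (X * X * X) * g * (X * X * X)⁻¹ by group, h3, one_mul,
      inv_one, mul_one] at this
  have htop : M ⊔ Subgroup.zpowers X = ⊤ := by
    set W := M ⊔ Subgroup.zpowers X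
    have hMW : M ≤ W := le_sup_left
    have hHW : F.H ≤ W := by
      have hle : B ⊔ Subgroup.zpowers X ≤ F.H := sup_le hBH (Subgroup.zpowers_le.2 (F.phi_mem_H _))
      have h56 : 8 * 7 * 3 ∣ Nat.card (B ⊔ Subgroup.zpowers X : Subgroup G) := by
        have h1 : 8 ∣ Nat.card (B ⊔ Subgroup.zpowers X : Subgroup G) :=
          F.card_S ▸ Subgroup.card_dvd_of_le (hSB.trans le_sup_left)
        have h2 : 7 ∣ Nat.card (B ⊔ Subgroup.zpowers X : Subgroup G) :=
          hP.2 ▸ Subgroup.card_dvd_of_le (hPB.trans le_sup_left)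
        have h3 : 3 ∣ Nat.card (B ⊔ Subgroup.zpowers X : Subgroup G) := by
          have := Subgroup.card_dvd_of_le (le_sup_right : Subgroup.zpowers X ≤ B ⊔ Subgroup.zpowers X)
          rwa [Nat.card_zpowers, hX, F.orderOf_phi_x] at this
        exact Nat.Coprime.mul_dvd_of_dvd_of_dvd (by norm_num)
          (Nat.Coprime.mul_dvd_of_dvd_of_dvd (by norm_num) h1 h2) h3
      rw [← Subgroup.eq_of_le_of_card_ge hle (by
        rw [F.card_H]; exact Nat.le_of_dvd Nat.card_pos h56)]
      exact sup_le_sup_right hBM _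
    rw [eq_top_iff]
    intro g _
    by_cases hg : g • F.o = F.o
    · exact hHW (F.smul_o_iff.1 hg)
    obtain ⟨s, hs, e⟩ := hreg _ hg
    have hmem : (s * U)⁻¹ * g ∈ F.H := F.smul_o_iff.1 (by
      rw [mul_smul, inv_smul_eq_iff, mul_smul, hUo, e])
    have := mul_mem (mul_mem (hHW (F.S_le_H hs)) (hMW hMU)) (hHW hmem)
    rwa [mul_inv_cancel_left] at this
  haveI hnormal : M.Normal := Subgroup.normalizer_eq_top_iff.1 (top_le_iff.1 (htop ▸
    sup_le Subgroup.le_normalizer (Subgroup.zpowers_le.2 hXnorm)))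
  have hG : Nat.card G = 1512 := by
    rw [Subgroup.card_eq_card_quotient_mul_card_subgroup F.H, hnine, F.card_H]
  have hindex : M.index = 3 := by
    have h1 : orderOf (X : G ⧸ M) = 3 := by
      refine orderOf_eq_prime ?_ (fun h => hXM ((QuotientGroup.eq_one_iff _).1 h))
      rw [← QuotientGroup.mk_pow, ← F.orderOf_phi_x, pow_orderOf_eq_one, QuotientGroup.mk_one]
    have h2 : Subgroup.zpowers (X : G ⧸ M) = ⊤ := by
      have := congrArg (Subgroup.map (QuotientGroup.mk' M)) htop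
      rwa [Subgroup.map_sup, QuotientGroup.map_mk'_self, bot_sup_eq, MonoidHom.map_zpowers,
        Subgroup.map_top_of_surjective _ (QuotientGroup.mk'_surjective M)] at this
    rw [Subgroup.index_eq_card, ← Subgroup.card_top (G := G ⧸ M), ← h2, Nat.card_zpowers, h1]
  have hcardM : Nat.card M = 504 := by
    have := M.index_mul_card
    rw [hindex, hG] at this
    omega
  refine ⟨M, hnormal, hG, hcardM, hSB.trans hBM, hXM, fun g hg => ?_, U, hMU, hU2, hUH⟩
  -- the centralizer of `M` is trivial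
  have hgH : g ∈ F.H := F.centralizer_le_H F.J_mem_S (ne_one F.orderOf_J) (hg _ (hBM (hSB F.J_mem_S)))
  obtain ⟨k, rfl⟩ := F.exists_model (hg _ (hBM (hSB F.J_mem_S)))
  have hkS : F.φ k ∈ F.S := ⟨k, F.std.self k fun b hb => F.inj (by
    rw [map_mul, map_mul]; exact hg _ (hBM (hSB ⟨b, hb, rfl⟩))), rfl⟩
  refine hfree _ hkS ?_
  rw [← hUo, ← mul_smul, hg U hMU, mul_smul, F.smul_o_iff.2 hgH]

end Four

end Cfsg.Agent.CentralTwoAlt
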