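import Cfsg.Prelude.Def_SporadicB
import Cfsg.Prelude.Def_TwoFusion
import Cfsg.Agent.Lib.Involutions.ThompsonTransfer

/-!
# An involution centralizer `⟨J⟩ × A_m` without a subgroup of index two forces `m = 4, 5`

A conjugate of `J` lies in `T ≅ A_m`. For `6 ≤ m` every involution of `A_m` is a product of commutators
inside its centralizer, so `J` would lie in the derived group of its own centralizer, inside `T`.
-/

set_option autoImplicit false
set_option linter.all false

namespace Cfsg.Agent.CentralTwoAlt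

open Equiv
open scoped commutatorElement

/-- The derived group of the centralizer of an element of the alternating group. -/
def derCent {m : ℕ} (σ : alternatingGroup (Fin m)) : Subgroup (alternatingGroup (Fin m)) :=
  ⁅Subgroup.centralizer ({σ} : Set (alternatingGroup (Fin m))),
    Subgroup.centralizer ({σ} : Set (alternatingGroup (Fin m)))⁆

theorem swap_pair_mem {m : ℕ} (σ : alternatingGroup (Fin m)) {a b c d e f : Fin m}
    (hab : a ≠ b) (hcd : c ≠ d) (hac : a ≠ c) (had : a ≠ d) (hbc : b ≠ c) (hbd : b ≠ d)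
    (hef : e ≠ f) (hea : e ≠ a) (heb : e ≠ b) (hec : e ≠ c) (hed : e ≠ d)
    (hfa : f ≠ a) (hfb : f ≠ b) (hfc : f ≠ c) (hfd : f ≠ d)
    (sa : σ.1 a = b) (sb : σ.1 b = a) (sc : σ.1 c = d) (sd : σ.1 d = c)
    (se : (σ.1 e = f ∧ σ.1 f = e) ∨ (σ.1 e = e ∧ σ.1 f = f)) :
    ∃ p ∈ derCent σ, p.1 = swap a b * swap c d := by
  have mk : ∀ {w x y z : Fin m}, w ≠ x → y ≠ z →
      (σ.1 * swap w x * σ.1⁻¹) * (σ.1 * swap y z * σ.1⁻¹) = swap w x * swap y z →
      ∃ q ∈ Subgroup.centralizer ({σ} : Set (alternatingGroup (Fin m))), q.1 = swap w x * swap y z := by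
    intro w x y z hwx hyz h
    refine ⟨⟨swap w x * swap y z, by
      rw [Equiv.Perm.mem_alternatingGroup, map_mul, Perm.sign_swap hwx, Perm.sign_swap hyz]
      rfl⟩, ?_, rfl⟩
    rw [Subgroup.mem_centralizer_singleton_iff]
    apply Subtype.ext
    show swap w x * swap y z * σ.1 = σ.1 * (swap w x * swap y z)
    conv_lhs => rw [← h]
    group
  have sw : ∀ x y : Fin m, σ.1 * swap x y * σ.1⁻¹ = swap (σ.1 x) (σ.1 y) := fun x y => by
    rw [Equiv.swap_apply_apply]
  obtain ⟨A, hA, hA'⟩ := mk hac hbd (by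
    rw [sw, sw, sa, sb, sc, sd]
    exact ((Equiv.Perm.disjoint_swap_swap (by simp [hab.symm, hac, had, hbc, hbd, hcd, hac.symm, had.symm, hbc.symm, hbd.symm, hab, hcd.symm])).commute).eq)
  obtain ⟨B, hB, hB'⟩ := mk hab hef (by
    rw [sw, sw, sa, sb, Equiv.swap_comm b a]
    rcases se with ⟨h1, h2⟩ | ⟨h1, h2⟩
    · rw [h1, h2, Equiv.swap_comm f e]
    · rw [h1, h2])
  refine ⟨⁅A, B⁆, Subgroup.commutator_mem_commutator hA hB, ?_⟩
  show A.1 * B.1 * A.1⁻¹ * B.1⁻¹ = _
  rw [hA', hB']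
  ext x
  simp only [Perm.mul_apply, mul_inv_rev, Equiv.swap_inv]
  rcases (show x = a ∨ x = b ∨ x = c ∨ x = d ∨ x = e ∨ x = f ∨
      (x ≠ a ∧ x ≠ b ∧ x ≠ c ∧ x ≠ d ∧ x ≠ e ∧ x ≠ f) by tauto) with
    rfl | rfl | rfl | rfl | rfl | rfl | ⟨x1, x2, x3, x4, x5, x6⟩ <;>
    simp [Equiv.swap_apply_of_ne_of_ne, Ne.symm hab, Ne.symm hcd, Ne.symm hac, Ne.symm had, Ne.symm hbc,
      Ne.symm hbd, Ne.symm hef, Ne.symm hea, Ne.symm heb, Ne.symm hec, Ne.symm hed, Ne.symm hfa,
      Ne.symm hfb, Ne.symm hfc, Ne.symm hfd, *]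

theorem involution_mem_derCent {m : ℕ} (hm : 6 ≤ m) (σ : alternatingGroup (Fin m)) (hσ : σ * σ = 1) :
    σ ∈ derCent σ := by
  classical
  have hσ' : ∀ x, σ.1 (σ.1 x) = x := fun x => by
    have := congrArg (fun p : alternatingGroup (Fin m) => p.1 x) hσ
    simpa using this
  suffices key : ∀ n, ∀ τ : Perm (Fin m), τ.support.card ≤ n → Perm.sign τ = 1 → (∀ x, τ (τ x) = x) →
      (∀ x, τ x ≠ x → σ.1 x = τ x) → ∃ p ∈ derCent σ, p.1 = τ by
    obtain ⟨p, hp, e⟩ := key _ σ.1 le_rfl (Equiv.Perm.mem_alternatingGroup.1 σ.2) hσ' (fun x _ => rfl)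
    obtain rfl : p = σ := Subtype.ext e
    exact hp
  intro n
  induction n with
  | zero =>
    intro τ hn _ _ _
    exact ⟨1, one_mem _, (Perm.support_eq_empty_iff.1 (Finset.card_eq_zero.1 (Nat.le_zero.1 hn))).symm⟩
  | succ n ih =>
    intro τ hn hs hτ hagree
    by_cases h1 : τ = 1
    · exact ⟨1, one_mem _, h1.symm⟩
    obtain ⟨a, ha⟩ : ∃ a, τ a ≠ a := by
      by_contra hc; push Not at hc; exact h1 (Equiv.ext hc)
    set b := τ a with hb
    have hba : τ b = a := hτ a
    obtain ⟨c, hca, hcb, hc⟩ : ∃ c, c ≠ a ∧ c ≠ b ∧ τ c ≠ c := by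
      by_contra hcon
      push Not at hcon
      have he : τ = swap a b := by
        ext x
        by_cases hxa : x = a
        · subst hxa; rw [Equiv.swap_apply_left]
        by_cases hxb : x = b
        · subst hxb; rw [Equiv.swap_apply_right, hba]
        rw [hcon x hxa hxb, Equiv.swap_apply_of_ne_of_ne hxa hxb]
      rw [he, Perm.sign_swap (Ne.symm ha)] at hs
      exact absurd hs (by decide)
    set d := τ c with hd
    have hdc : τ d = c := hτ c
    have hab : a ≠ b := Ne.symm ha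
    have hcd : c ≠ d := Ne.symm hc
    have hac : a ≠ c := hca.symm
    have hbc : b ≠ c := hcb.symm
    have had : a ≠ d := fun e => hcb (by rw [← hdc, ← e])
    have hbd : b ≠ d := fun e => hca (by rw [← hdc, ← e, hba])
    have sa : σ.1 a = b := hagree a ha
    have sb : σ.1 b = a := by rw [← sa, hσ']
    have sc : σ.1 c = d := hagree c hc
    have sd : σ.1 d = c := by rw [← sc, hσ']
    obtain ⟨e, f, hef, hea, heb, hec, hed, hfa, hfb, hfc, hfd, se⟩ :
        ∃ e f, e ≠ f ∧ e ≠ a ∧ e ≠ b ∧ e ≠ c ∧ e ≠ d ∧ f ≠ a ∧ f ≠ b ∧ f ≠ c ∧ f ≠ d ∧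
          ((σ.1 e = f ∧ σ.1 f = e) ∨ (σ.1 e = e ∧ σ.1 f = f)) := by
      let rest := (Finset.univ : Finset (Fin m)) \ {a, b, c, d}
      have hrest : ∀ x, x ∈ rest ↔ x ≠ a ∧ x ≠ b ∧ x ≠ c ∧ x ≠ d := fun x => by simp [rest]
      by_cases hmv : ∃ x ∈ rest, σ.1 x ≠ x
      · obtain ⟨x, hx, hx'⟩ := hmv
        obtain ⟨h1, h2, h3, h4⟩ := (hrest x).1 hx
        refine ⟨x, σ.1 x, Ne.symm hx', h1, h2, h3, h4, ?_, ?_, ?_, ?_, Or.inl ⟨rfl, hσ' x⟩⟩ <;> intro e
        · exact h2 (by rw [← hσ' x, e, sa])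
        · exact h1 (by rw [← hσ' x, e, sb])
        · exact h4 (by rw [← hσ' x, e, sc])
        · exact h3 (by rw [← hσ' x, e, sd])
      · push Not at hmv
        have hcard : 2 ≤ rest.card := by
          have h4 : ({a, b, c, d} : Finset (Fin m)).card ≤ 4 := Finset.card_le_four
          have := Finset.le_card_sdiff ({a, b, c, d} : Finset (Fin m)) (Finset.univ : Finset (Fin m))
          simp only [Finset.card_univ, Fintype.card_fin] at this
          show 2 ≤ ((Finset.univ : Finset (Fin m)) \ {a, b, c, d}).card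
          omega
        obtain ⟨x, hx, y, hy, hxy⟩ := Finset.one_lt_card.1 hcard
        obtain ⟨h1, h2, h3, h4⟩ := (hrest x).1 hx
        obtain ⟨k1, k2, k3, k4⟩ := (hrest y).1 hy
        exact ⟨x, y, hxy, h1, h2, h3, h4, k1, k2, k3, k4, Or.inr ⟨hmv x hx, hmv y hy⟩⟩
    obtain ⟨p, hp, hp'⟩ := swap_pair_mem σ hab hcd hac had hbc hbd hef hea heb hec hed hfa hfb hfc hfd
      sa sb sc sd se
    set τ' := swap a b * swap c d * τ with hτ'
    have hfix : τ' a = a ∧ τ' b = b ∧ τ' c = c ∧ τ' d = d := by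
      simp [hτ', ← hb, ← hd, hba, hdc, Equiv.swap_apply_of_ne_of_ne, hab, hcd, hac, had, hbc, hbd,
        hac.symm, had.symm, hbc.symm, hbd.symm]
    have hother : ∀ x, x ≠ a → x ≠ b → x ≠ c → x ≠ d → τ' x = τ x := by
      intro x h1 h2 h3 h4
      have e1 : τ x ≠ a := fun e => h2 (by rw [← hτ x, e])
      have e2 : τ x ≠ b := fun e => h1 (by rw [← hτ x, e, hba])
      have e3 : τ x ≠ c := fun e => h4 (by rw [← hτ x, e])
      have e4 : τ x ≠ d := fun e => h3 (by rw [← hτ x, e, hdc])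
      simp [hτ', Equiv.swap_apply_of_ne_of_ne, e1, e2, e3, e4]
    have hsub : τ'.support.card ≤ n := by
      have hss : τ'.support ⊆ τ.support.erase a := fun x hx => by
        rw [Perm.mem_support] at hx
        have hxa : x ≠ a := fun e => hx (e ▸ hfix.1)
        refine Finset.mem_erase.2 ⟨hxa, Perm.mem_support.2 ?_⟩
        rw [← hother x hxa (fun e => hx (e ▸ hfix.2.1)) (fun e => hx (e ▸ hfix.2.2.1))
          (fun e => hx (e ▸ hfix.2.2.2))]
        exact hx
      have h3 := Finset.card_le_card hss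
      rw [Finset.card_erase_of_mem (Perm.mem_support.2 ha)] at h3
      omega
    have hcases : ∀ x, τ' x = x ∨ (τ' x = τ x ∧ x ≠ a ∧ x ≠ b ∧ x ≠ c ∧ x ≠ d) := by
      intro x
      by_cases h1 : x = a
      · subst h1; exact Or.inl hfix.1
      by_cases h2 : x = b
      · subst h2; exact Or.inl hfix.2.1
      by_cases h3 : x = c
      · subst h3; exact Or.inl hfix.2.2.1
      by_cases h4 : x = d
      · subst h4; exact Or.inl hfix.2.2.2
      exact Or.inr ⟨hother x h1 h2 h3 h4, h1, h2, h3, h4⟩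
    have hinv : ∀ x, τ' (τ' x) = x := fun x => by
      rcases hcases x with h | ⟨h, h1, h2, h3, h4⟩
      · rw [h, h]
      · rw [h]
        rw [hother _ (fun e => h2 (by rw [← hτ x, e])) (fun e => h1 (by rw [← hτ x, e, hba]))
          (fun e => h4 (by rw [← hτ x, e])) (fun e => h3 (by rw [← hτ x, e, hdc])), hτ]
    obtain ⟨q, hq, hq'⟩ := ih τ' hsub
      (by rw [hτ', map_mul, map_mul, Perm.sign_swap hab, Perm.sign_swap hcd, hs]; rfl) hinv
      (fun x hx => by
        rcases hcases x with h | ⟨h, -⟩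
        · exact absurd h hx
        · rw [h] at hx ⊢; exact hagree x hx)
    refine ⟨p * q, mul_mem hp hq, ?_⟩
    show p.1 * q.1 = τ
    rw [hp', hq', hτ']
    rw [← mul_assoc]
    suffices h : swap a b * swap c d * (swap a b * swap c d) = 1 by rw [h, one_mul]
    ext x
    simp [Equiv.swap_apply_def]
    grind

variable {G : Type*} [Group G] [Finite G]

/-- Only `A₄` and `A₅` are possible. -/
theorem m_eq {J : G} (hJ : Cfsg.IsTwoCentralInvolution J) (h2 : ∀ K : Subgroup G, K.index ≠ 2) {m : ℕ}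
    {T : Subgroup G} (e : T ≃* alternatingGroup (Fin m))
    (hd : Cfsg.IsInternalDirectProduct (Subgroup.zpowers J) T (Subgroup.centralizer ({J} : Set G))) :
    (m = 4 ∨ m = 5) ∧ ∃ g : G, g * J * g⁻¹ ∈ T := by
  haveI := Fact.mk Nat.prime_two
  obtain ⟨hJ2, S, hJS, hSc⟩ := hJ
  obtain ⟨-, hTC, hcomm, hint, hsup⟩ := hd
  have hJT : J ∉ T := fun h => by
    have hm : J ∈ (⊥ : Subgroup G) := hint ▸ ⟨Subgroup.mem_zpowers J, h⟩
    rw [Subgroup.mem_bot] at hm
    rw [hm, orderOf_one] at hJ2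
    norm_num at hJ2
  have hJJ : J * J = 1 := by rw [← sq, ← hJ2]; exact pow_orderOf_eq_one J
  have hJc : ∀ t ∈ T, J * t = t * J := fun t ht => hcomm J (Subgroup.mem_zpowers J) t ht
  let U : Subgroup G :=
    { carrier := {c | (c ∈ T ∨ c * J ∈ T) ∧ c * J = J * c}
      one_mem' := ⟨Or.inl T.one_mem, by simp⟩
      mul_mem' := fun {a b} ha hb => by
        obtain ⟨ha, hac⟩ := ha
        obtain ⟨hb, hbc⟩ := hb
        have key : a * J * (b * J) = a * b := by
          calc a * J * (b * J) = a * (J * b) * J := by group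
            _ = a * (b * J) * J := by rw [hbc]
            _ = a * b * (J * J) := by group
            _ = a * b := by rw [hJJ, mul_one]
        refine ⟨?_, by rw [mul_assoc, hbc, ← mul_assoc, hac, mul_assoc]⟩
        rcases ha with ha | ha <;> rcases hb with hb | hb
        · exact Or.inl (T.mul_mem ha hb)
        · exact Or.inr (by rw [mul_assoc]; exact T.mul_mem ha hb)
        · refine Or.inr ?_
          rw [mul_assoc, hbc, ← mul_assoc]
          exact T.mul_mem ha hb
        · exact Or.inl (key ▸ T.mul_mem ha hb)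
      inv_mem' := fun {a} ha => by
        obtain ⟨ha, hac⟩ := ha
        have hc' : a⁻¹ * J = J * a⁻¹ := (Commute.inv_left (hac : Commute a J)).eq
        refine ⟨ha.imp T.inv_mem fun h => ?_, hc'⟩
        have := T.inv_mem h
        rwa [mul_inv_rev, inv_eq_of_mul_eq_one_left hJJ, ← hc'] at this }
  have dec : ∀ c ∈ Subgroup.centralizer ({J} : Set G), c ∈ T ∨ c * J ∈ T := by
    intro c hc
    have hle : Subgroup.zpowers J ⊔ T ≤ U :=
      sup_le (Subgroup.zpowers_le.2 ⟨Or.inr (by rw [hJJ]; exact T.one_mem), rfl⟩)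
        fun t ht => ⟨Or.inl ht, (hJc t ht).symm⟩
    exact (hle (hsup.symm ▸ hc)).1
  have hderT : ⁅Subgroup.centralizer ({J} : Set G), Subgroup.centralizer ({J} : Set G)⁆ ≤ T := by
    rw [Subgroup.commutator_le]
    intro a ha b hb
    obtain ⟨a', ha', ea⟩ : ∃ a' ∈ T, a = a' ∨ a = a' * J := by
      rcases dec a ha with h | h
      exacts [⟨a, h, Or.inl rfl⟩, ⟨a * J, h, Or.inr (by rw [mul_assoc, hJJ, mul_one])⟩]
    obtain ⟨b', hb', eb⟩ : ∃ b' ∈ T, b = b' ∨ b = b' * J := by
      rcases dec b hb with h | h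
      exacts [⟨b, h, Or.inl rfl⟩, ⟨b * J, h, Or.inr (by rw [mul_assoc, hJJ, mul_one])⟩]
    have c1 : Commute J a' := hJc a' ha'
    have c2 : Commute J b' := hJc b' hb'
    have hkey : ⁅a, b⁆ = ⁅a', b'⁆ := by
      rcases ea with rfl | rfl <;> rcases eb with rfl | rfl <;> simp only [commutatorElement_def, mul_inv_rev]
      · calc a * (b' * J) * a⁻¹ * (J⁻¹ * b'⁻¹) = a * b' * (J * a⁻¹) * J⁻¹ * b'⁻¹ := by group
          _ = a * b' * (a⁻¹ * J) * J⁻¹ * b'⁻¹ := by rw [c1.inv_right.eq]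
          _ = _ := by group
      · calc a' * J * b * (J⁻¹ * a'⁻¹) * b⁻¹ = a' * (J * b) * J⁻¹ * a'⁻¹ * b⁻¹ := by group
          _ = a' * (b * J) * J⁻¹ * a'⁻¹ * b⁻¹ := by rw [c2.eq]
          _ = _ := by group
      · calc a' * J * (b' * J) * (J⁻¹ * a'⁻¹) * (J⁻¹ * b'⁻¹) = a' * (J * b') * (a'⁻¹ * J⁻¹) * b'⁻¹ := by group
          _ = a' * (b' * J) * (J⁻¹ * a'⁻¹) * b'⁻¹ := by rw [c2.eq, c1.inv_right.inv_left.eq]
          _ = _ := by group
    rw [hkey]
    simp only [commutatorElement_def]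
    exact T.mul_mem (T.mul_mem (T.mul_mem ha' hb') (T.inv_mem ha')) (T.inv_mem hb')
  -- a conjugate of `J` in `T`
  have hrel : ((S : Subgroup G) ⊓ T).relIndex (S : Subgroup G) = 2 := by
    refine Subgroup.index_eq_two_iff.2 ⟨⟨J, hJS⟩, fun x => ?_⟩
    simp only [Subgroup.mem_subgroupOf, Subgroup.coe_mul, Subgroup.mem_inf]
    have hxT := dec x (Subgroup.mem_centralizer_singleton_iff.2 (hSc _ x.2))
    have hSJ : (x : G) * J ∈ (S : Subgroup G) := mul_mem x.2 hJS
    rcases hxT with h | h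
    · refine Or.inr ⟨⟨x.2, h⟩, fun hc => hJT ?_⟩
      have := T.mul_mem (T.inv_mem h) hc.2
      rwa [inv_mul_cancel_left] at this
    · refine Or.inl ⟨⟨hSJ, h⟩, fun hc => hJT ?_⟩
      have := T.mul_mem (T.inv_mem hc.2) h
      rwa [inv_mul_cancel_left] at this
  obtain ⟨g, -, hg⟩ :=
    Cfsg.Agent.Involutions.ThompsonTransfer.exists_conj_mem h2 S _ inf_le_left hrel J hJ2
  refine ⟨?_, g, hg⟩
  set j := g * J * g⁻¹ with hj
  let j' : T := ⟨j, hg⟩
  set σ := e j' with hσ
  have hσ2 : σ * σ = 1 := by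
    rw [hσ, ← map_mul, show j' * j' = 1 from Subtype.ext (by
      show j * j = 1
      rw [hj]
      calc g * J * g⁻¹ * (g * J * g⁻¹) = g * (J * J) * g⁻¹ := by group
        _ = 1 := by rw [hJJ]; group), map_one]
  have hσ1 : σ ≠ 1 := fun h => by
    have h' : j' = 1 := e.injective (h.trans (map_one e).symm)
    have hJ1 : J = 1 := conj_eq_one_iff.1 (congrArg Subtype.val h' :)
    rw [hJ1, orderOf_one] at hJ2
    norm_num at hJ2
  by_contra hm
  rcases Nat.lt_or_ge m 4 with h | h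
  · have hodd : ∀ k < 4, ∀ σ : alternatingGroup (Fin k), σ * σ = 1 → σ = 1 := by decide +kernel
    exact hσ1 (hodd m h σ hσ2)
  · have hder := involution_mem_derCent (by omega : 6 ≤ m) σ hσ2
    let ι : alternatingGroup (Fin m) →* G := T.subtype.comp e.symm.toMonoidHom
    have hι : ι σ = j := by
      show ((e.symm (e j') : T) : G) = j
      rw [MulEquiv.symm_apply_apply]
    have h1 : j ∈ ⁅(Subgroup.centralizer ({σ} : Set (alternatingGroup (Fin m)))).map ι,
        (Subgroup.centralizer ({σ} : Set (alternatingGroup (Fin m)))).map ι⁆ := by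
      rw [← Subgroup.map_commutator]
      exact ⟨σ, hder, hι⟩
    have h3 : ⁅(Subgroup.centralizer ({σ} : Set (alternatingGroup (Fin m)))).map ι,
        (Subgroup.centralizer ({σ} : Set (alternatingGroup (Fin m)))).map ι⁆ ≤
        (⁅Subgroup.centralizer ({J} : Set G), Subgroup.centralizer ({J} : Set G)⁆).map
          (MulAut.conj g).toMonoidHom := by
      rw [Subgroup.map_commutator]
      have hle : (Subgroup.centralizer ({σ} : Set (alternatingGroup (Fin m)))).map ι ≤
          (Subgroup.centralizer ({J} : Set G)).map (MulAut.conj g).toMonoidHom := by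
        rintro x ⟨y, hy, rfl⟩
        have hc : ι y * j = j * ι y := by
          rw [← hι, ← map_mul, ← map_mul, Subgroup.mem_centralizer_singleton_iff.1 hy]
        refine ⟨g⁻¹ * ι y * g, Subgroup.mem_centralizer_singleton_iff.2 ?_, by simp [mul_assoc]⟩
        calc g⁻¹ * ι y * g * J = g⁻¹ * (ι y * j) * g := by rw [hj]; group
          _ = g⁻¹ * (j * ι y) * g := by rw [hc]
          _ = _ := by rw [hj]; group
      exact Subgroup.commutator_mono hle hle
    obtain ⟨z, hz, hz'⟩ := h3 h1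
    have : z = J := by
      have hz'' : g * z * g⁻¹ = g * J * g⁻¹ := hz'
      simpa using hz''
    exact hJT (this ▸ hderT hz)

end Cfsg.Agent.CentralTwoAlt
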