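import Cfsg.Agent.Lib.CentralTwoAlt.Base
import Cfsg.Agent.Lib.CentralTwoAlt.Transfer

/-!
# The model centralizers `C₂ × A₄` and `C₂ × A₅`
-/

set_option autoImplicit false
set_option linter.all false
set_option maxRecDepth 100000
set_option synthInstance.maxHeartbeats 200000
set_option maxHeartbeats 400000

namespace Cfsg.Agent.CentralTwoAlt

open Equiv

/-- The model centralizer. -/
abbrev Model (m : ℕ) : Type := Multiplicative (ZMod 2) × alternatingGroup (Fin m)

def p4 : alternatingGroup (Fin 4) × alternatingGroup (Fin 4) × alternatingGroup (Fin 4) :=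
  (⟨swap 0 1 * swap 2 3, by rw [Perm.mem_alternatingGroup]; decide +kernel⟩,
   ⟨swap 0 2 * swap 1 3, by rw [Perm.mem_alternatingGroup]; decide +kernel⟩,
   ⟨swap 0 1 * swap 1 2, by rw [Perm.mem_alternatingGroup]; decide +kernel⟩)

def p5 : alternatingGroup (Fin 5) × alternatingGroup (Fin 5) × alternatingGroup (Fin 5) :=
  (⟨swap 0 1 * swap 2 3, by rw [Perm.mem_alternatingGroup]; decide +kernel⟩,
   ⟨swap 0 2 * swap 1 3, by rw [Perm.mem_alternatingGroup]; decide +kernel⟩,
   ⟨swap 0 1 * swap 1 2, by rw [Perm.mem_alternatingGroup]; decide +kernel⟩)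

/-- The elementary abelian subgroup of order eight. -/
def sd {m : ℕ} (p : alternatingGroup (Fin m) × alternatingGroup (Fin m) × alternatingGroup (Fin m)) :
    Finset (Model m) :=
  (Finset.univ : Finset (Multiplicative (ZMod 2))) ×ˢ {1, p.1, p.2.1, p.1 * p.2.1}

/-- The central involution. -/
def tau (m : ℕ) : Model m := (Multiplicative.ofAdd 1, 1)

/-- The element of order three. -/
def xx {m : ℕ} (p : alternatingGroup (Fin m) × alternatingGroup (Fin m) × alternatingGroup (Fin m)) :
    Model m := (1, p.2.2)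

theorem self4 : ∀ k : Model 4, (decide (k ∈ sd p4) || !((sd p4).filter fun a => k * a ≠ a * k) == ∅) = true := by
  decide +kernel

theorem std4 : Std (sd p4) (tau 4) (xx p4) := by
  refine ⟨?_, ?_, ?_, ?_, ?_, ?_, ?_, ?_, ?_, ?_, fun k hk => ?_⟩
  case refine_11 =>
    have h := self4 k
    simp only [Bool.or_eq_true, decide_eq_true_eq, Bool.not_eq_true', beq_eq_false_iff_ne] at h
    refine h.resolve_right fun h' => h' (Finset.filter_eq_empty_iff.2 fun a ha => ?_)
    simpa using hk a ha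
  all_goals decide +kernel

theorem self5 : ∀ k : Model 5, (decide (k ∈ sd p5) || !((sd p5).filter fun a => k * a ≠ a * k) == ∅) = true := by
  decide +kernel

theorem std5 : Std (sd p5) (tau 5) (xx p5) := by
  refine ⟨?_, ?_, ?_, ?_, ?_, ?_, ?_, ?_, ?_, ?_, fun k hk => ?_⟩
  case refine_11 =>
    have h := self5 k
    simp only [Bool.or_eq_true, decide_eq_true_eq, Bool.not_eq_true', beq_eq_false_iff_ne] at h
    refine h.resolve_right fun h' => h' (Finset.filter_eq_empty_iff.2 fun a ha => ?_)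
    simpa using hk a ha
  all_goals decide +kernel

theorem model_card : Nat.card (Model 4) = 24 ∧ Nat.card (Model 5) = 120 := by
  rw [Nat.card_eq_fintype_card, Nat.card_eq_fintype_card]; decide +kernel

theorem model_one_ne : (1 : Multiplicative (ZMod 2)) ≠ Multiplicative.ofAdd (1 : ZMod 2) := by decide

variable {G : Type*} [Group G] [Finite G] {J : G} {T : Subgroup G}

/-- The centralizer is the image of the model. -/
theorem exists_hom {m : ℕ} (hJ : orderOf J = 2)
    (e : T ≃* alternatingGroup (Fin m))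
    (hd : Cfsg.IsInternalDirectProduct (Subgroup.zpowers J) T (Subgroup.centralizer ({J} : Set G))) :
    ∃ φ : Model m →* G, Function.Injective φ ∧ φ.range = Subgroup.centralizer ({J} : Set G) ∧
      φ (tau m) = J ∧ ∀ t ∈ T, ∃ a, φ (1, a) = t := by
  obtain ⟨hJC, hTC, hcomm, hint, hsup⟩ := hd
  have hcard : Nat.card (Subgroup.zpowers J) = Nat.card (Multiplicative (ZMod 2)) := by
    rw [Nat.card_zpowers, hJ, Nat.card_congr Multiplicative.toAdd, Nat.card_zmod]
  let ε : Multiplicative (ZMod 2) →* Subgroup.zpowers J := (mulEquivOfCyclicCardEq hcard.symm).toMonoidHom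
  have hε : Function.Injective ε := (mulEquivOfCyclicCardEq hcard.symm).injective
  let g : alternatingGroup (Fin m) →* G := T.subtype.comp e.symm.toMonoidHom
  let f : Multiplicative (ZMod 2) →* G := (Subgroup.zpowers J).subtype.comp ε
  let φ : Model m →* G := f.noncommCoprod g fun a b => hcomm _ (ε a).2 _ (e.symm b).2
  have hφ : ∀ a b, φ (a, b) = f a * g b := fun a b => rfl
  have hfr : f.range = Subgroup.zpowers J := by
    ext x
    refine ⟨?_, fun hx => ⟨(mulEquivOfCyclicCardEq hcard.symm).symm ⟨x, hx⟩, by simp [f, ε]⟩⟩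
    rintro ⟨a, rfl⟩; exact (ε a).2
  have hgr : g.range = T := by
    ext x
    refine ⟨?_, fun hx => ⟨e ⟨x, hx⟩, by simp [g]⟩⟩
    rintro ⟨a, rfl⟩; exact (e.symm a).2
  refine ⟨φ, ?_, ?_, ?_, fun t ht => ⟨e ⟨t, ht⟩, by simp [hφ, g]⟩⟩
  · rw [← MonoidHom.ker_eq_bot_iff, Subgroup.eq_bot_iff_forall]
    rintro ⟨a, b⟩ hab
    rw [MonoidHom.mem_ker, hφ, mul_eq_one_iff_eq_inv] at hab
    have h1 : f a = 1 := by
      have : f a ∈ Subgroup.zpowers J ⊓ T :=
        ⟨(ε a).2, by rw [hab]; exact T.inv_mem (e.symm b).2⟩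
      rwa [hint, Subgroup.mem_bot] at this
    have h2 : g b = 1 := by rw [h1] at hab; simpa using hab.symm
    exact Prod.ext (hε (Subtype.ext (h1.trans (by simp))))
      (e.symm.injective (Subtype.ext (h2.trans (by simp))))
  · exact (MonoidHom.noncommCoprod_range f g _).trans (by rw [hfr, hgr, hsup])
  · rw [tau, hφ, map_one g, mul_one]
    have h1 : f (Multiplicative.ofAdd 1) ≠ 1 := fun h =>
      absurd (hε (Subtype.ext (h.trans (by simp))) : Multiplicative.ofAdd (1 : ZMod 2) = 1) (by decide)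
    obtain ⟨k, hk⟩ := Subgroup.mem_zpowers_iff.1 (ε (Multiplicative.ofAdd 1)).2
    change J ^ k = f (Multiplicative.ofAdd 1) at hk
    rw [← hk, ← zpow_mod_orderOf, hJ] at h1 ⊢
    rcases Int.emod_two_eq_zero_or_one k with h | h <;> simp_all

/-- The context of an involution centralizer modelled on the data `p`. -/
theorem exists_ctx {m : ℕ} {p : alternatingGroup (Fin m) × alternatingGroup (Fin m) × alternatingGroup (Fin m)}
    (hp : Std (sd p) (tau m) (xx p)) (h16 : ¬ 16 ∣ Nat.card (Model m))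
    (hJ : Cfsg.IsTwoCentralInvolution J) (e : T ≃* alternatingGroup (Fin m))
    (hd : Cfsg.IsInternalDirectProduct (Subgroup.zpowers J) T (Subgroup.centralizer ({J} : Set G)))
    (hg : ∃ g : G, g * J * g⁻¹ ∈ T) :
    ∃ c : Ctx G (Model m), c.J = J ∧ c.Sd = sd p ∧ c.τ = tau m ∧ c.x = xx p := by
  obtain ⟨φ, hinj, hr, hτ, hT⟩ := exists_hom hJ.1 e hd
  obtain ⟨g, hg⟩ := hg
  obtain ⟨a, ha⟩ := hT _ hg
  refine ⟨⟨J, φ, sd p, tau m, xx p, hp, hinj, hr, hτ, hJ, h16, (1, a), fun h => ?_,
    isConj_iff.2 ⟨g, ha.symm⟩⟩, rfl, rfl, rfl, rfl⟩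
  have h1 : (1 : Multiplicative (ZMod 2)) = Multiplicative.ofAdd (1 : ZMod 2) := congrArg Prod.fst h
  exact model_one_ne h1

end Cfsg.Agent.CentralTwoAlt
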